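import Mathlib
import Cfsg.Agent.Lib.FGS83.R4H
import Cfsg.Agent.Lib.Invol.Count

/-! Non-solvable subgroups of `S₆` without odd involutions. -/

set_option autoImplicit false

namespace H28.R4.Fx

open Subgroup Equiv Equiv.Perm

/-- a cycle of length five -/
def f5 : Perm (Fin 6) := swap 0 3 * swap 0 4 * swap 0 2 * swap 0 1

/-- evaluation of a word in two functions -/
def ev2 (u v : Fin 6 → Fin 6) : List Bool → Fin 6 → Fin 6
  | [], x => x
  | c :: w, x => cond c v u (ev2 u v w x)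

theorem exists_ev {σ τ : Perm (Fin 6)} (w : List Bool) :
    ∃ π : Perm (Fin 6), (∀ x, π x = ev2 σ τ w x) ∧ ∀ K : Subgroup (Perm (Fin 6)), σ ∈ K → τ ∈ K → π ∈ K := by
  induction w with
  | nil => exact ⟨1, fun _ => rfl, fun K _ _ => K.one_mem⟩
  | cons c w ih =>
    obtain ⟨π, a, e⟩ := ih
    cases c
    exacts [⟨σ * π, fun x => congrArg σ (a x), fun K i j => mul_mem i (e K i j)⟩,
      ⟨τ * π, fun x => congrArg τ (a x), fun K i j => mul_mem j (e K i j)⟩]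

theorem coe_f5 : ⇑f5 = ![1, 2, 4, 0, 3, 5] := by decide +kernel

theorem forall_perm {Q : Fin 6 → Fin 6 → Prop} {P : (Fin 6 → Fin 6) → Prop} (h : ∀ a b : Fin 6, Q a b →
    ∀ c d : Fin 6, [a, b, c, d].Nodup → ∀ e f : Fin 6, [a, b, c, d, e, f].Nodup → P ![a, c, d, e, f, b])
    (σ : Perm (Fin 6)) (q : Q (σ 0) (σ 5)) : P σ := by
  have := h (σ 0) (σ 5) q (σ 1) (σ 2)
    (List.Nodup.map σ.injective (l := [0, 5, 1, 2]) (by decide)) (σ 3) (σ 4)
    (List.Nodup.map σ.injective (l := [0, 5, 1, 2, 3, 4]) (by decide))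
  rwa [show ![σ 0, σ 1, σ 2, σ 3, σ 4, σ 5] = σ from funext fun x => by fin_cases x <;> rfl] at this

variable {B : Subgroup (Perm (Fin 6))}

set_option synthInstance.maxSize 1000 in
theorem odd_invol (h1 : ∀ i j, i ≠ j → swap i j ∉ B)
    (h3 : ∀ i j l m n o, [i, j, l, m, n, o].Nodup → swap i j * swap l m * swap n o ∉ B) {σ : Perm (Fin 6)}
    (hσ : σ ∈ B) (h2 : σ * σ = 1) : sign σ = 1 := by
  have c := forall_perm (Q := (· ≠ ·)) (P := fun h => (∀ x, h (h x) = x) → (∀ x, h x = x) ∨ (∃ i, i ≠ h i ∧ ∀ x, h x = swap i (h i) x) ∨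
    (∃ i l, i ≠ h i ∧ l ≠ h l ∧ ∀ x, h x = swap i (h i) (swap l (h l) x)) ∨
    ∃ i l n, [i, h i, l, h l, n, h n].Nodup ∧ ∀ x, h x = swap i (h i) (swap l (h l) (swap n (h n) x)))
    (by decide +kernel) σ (σ.injective.ne (by decide)) fun x => by rw [← mul_apply, h2, one_apply]
  rcases c with c | ⟨i, a, c⟩ | ⟨i, l, a, b, c⟩ | ⟨i, l, n, a, c⟩
  · rw [show σ = 1 from Equiv.ext c, map_one]
  · exact absurd ((show σ = swap i (σ i) from Equiv.ext c) ▸ hσ) (h1 _ _ a)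
  · rw [show σ = swap i (σ i) * swap l (σ l) from Equiv.ext c, map_mul, sign_swap a, sign_swap b]
    rfl
  · exact absurd ((show σ = swap i (σ i) * swap l (σ l) * swap n (σ n) from Equiv.ext c) ▸ hσ) (h3 _ _ _ _ _ _ a)

theorem norm5 (hf : f5 ∈ B) {g : Perm (Fin 6)} (hg : g ∈ B) : ∃ g' ∈ B, sign g' = sign g ∧
    ((g 5 = 5 ∧ g' 0 = 0 ∧ g' 5 = 5) ∨ (g' 0 = 5 ∧ g' 5 = 0)) := by
  have c : ∀ x : Fin 6, x ≠ 5 → (∃ i < 5, (f5 ^ i) x = 0) ∧ ∃ i < 5, (f5 ^ i) 0 = x := by decide +kernel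
  have d : ∀ i, sign (f5 ^ i) = 1 ∧ (f5 ^ i) 5 = 5 := fun i =>
    ⟨by rw [map_pow, show sign f5 = 1 by decide +kernel, one_pow], pow_apply_eq_self_of_apply_eq_self (by decide) i⟩
  by_cases e : g 5 = 5
  · obtain ⟨i, -, a⟩ := (c (g 0) fun f => absurd (g.injective (f.trans e.symm)) (by decide)).1
    exact ⟨f5 ^ i * g, mul_mem (pow_mem hf i) hg, by rw [map_mul, (d i).1, one_mul],
      Or.inl ⟨e, a, by rw [mul_apply, e, (d i).2]⟩⟩
  · obtain ⟨i, -, a⟩ := (c _ e).1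
    obtain ⟨j, -, b⟩ := (c (g⁻¹ 5) fun f => e (by conv_lhs => rw [← f]; simp)).2
    exact ⟨f5 ^ i * g * f5 ^ j, mul_mem (mul_mem (pow_mem hf i) hg) (pow_mem hf j),
      by rw [map_mul, map_mul, (d i).1, (d j).1, one_mul, mul_one],
      Or.inr ⟨by rw [mul_apply, b, mul_apply]; simpa using (d i).2, by rw [mul_apply, (d j).2, mul_apply, a]⟩⟩

theorem card_even (h : ¬ Group.IsSolvable B) : Nat.card (B.subgroupOf (alternatingGroup (Fin 6))) = 60 ∨
    B.subgroupOf (alternatingGroup (Fin 6)) = ⊤ := by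
  have := alternatingGroup.isSimpleGroup (α := Fin 6) (by simp)
  have h1 := H83.R4.sixty_le (G := B.subgroupOf (alternatingGroup (Fin 6))) fun _ => h
    (Group.isSolvable_of_ker_le_range (G' := B.subgroupOf (alternatingGroup (Fin 6)))
      (((alternatingGroup (Fin 6)).subtype.comp (Subgroup.subtype _)).codRestrict B fun x => x.2)
      ((sign : Perm (Fin 6) →* ℤˣ).comp B.subtype) fun x hx => ⟨⟨⟨x, mem_alternatingGroup.2 hx⟩, x.2⟩, rfl⟩)
  have h2 := (B.subgroupOf (alternatingGroup (Fin 6))).card_mul_index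
  refine or_iff_not_imp_right.2 fun e => ?_
  have h3 := H9.card_dvd_factorial_index_of_simple e
  have h4 : (B.subgroupOf (alternatingGroup (Fin 6))).index ≤ 6 := by
    rw [nat_card_alternatingGroup, Nat.card_fin] at h2
    by_contra f
    have := Nat.mul_le_mul h1 (not_le.1 f)
    norm_num [h2, Nat.factorial] at this
  rw [nat_card_alternatingGroup, Nat.card_fin, show Nat.factorial 6 / 2 = 360 from rfl] at h2 h3
  generalize (B.subgroupOf (alternatingGroup (Fin 6))).index = n at h2 h3 h4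
  interval_cases n <;> first | omega | exact absurd h3 (by decide)

theorem exists_f5 (h : ¬ Group.IsSolvable B) : ∃ σ, σ * f5 * σ⁻¹ ∈ B := by
  have k : ∀ σ : Perm (Fin 6), orderOf σ = 5 → σ.cycleType = Multiset.replicate 1 5 := fun σ e => by
    obtain ⟨n, a⟩ := cycleType_prime_order (σ := σ) (e ▸ Nat.prime_five)
    have := σ.sum_cycleType ▸ σ.support.card_le_univ
    rw [a, e, Multiset.sum_replicate, Fintype.card_fin, smul_eq_mul] at this
    rw [a, e, show n = 0 by omega]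
  have := Fact.mk Nat.prime_five
  obtain ⟨x, e⟩ := exists_prime_orderOf_dvd_card' (G := B.subgroupOf (alternatingGroup (Fin 6))) 5 (by
    rcases card_even h with a | a <;> rw [a]
    · norm_num
    · rw [card_top, nat_card_alternatingGroup, Nat.card_fin]; norm_num [Nat.factorial])
  obtain ⟨σ, a⟩ := isConj_iff.1 (isConj_iff_cycleType_eq.2 ((k f5 (orderOf_eq_prime (by decide +kernel)
    (by decide +kernel))).trans (k x.1.1 (by simpa using e)).symm))
  exact ⟨σ, a ▸ x.2⟩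

theorem s6 (h : ¬ Group.IsSolvable B) (h1 : ∀ i j, i ≠ j → swap i j ∉ B)
    (h3 : ∀ i j l m n o, [i, j, l, m, n, o].Nodup → swap i j * swap l m * swap n o ∉ B) (hf : f5 ∈ B) :
    (∀ σ, σ ∈ B ↔ sign σ = 1 ∧ σ 5 = 5) ∨ (∀ σ, σ ∈ B ↔ sign σ = 1) ∨
      (Nat.card B = 60 ∧ swap 0 1 * swap 2 3 ∈ B ∧ swap 0 1 * swap 4 5 ∈ B ∧
        swap 0 4 * swap 0 2 * (swap 1 5 * swap 1 3) ∈ B ∧ ∀ σ ∈ B, sign σ = 1) := by
  by_cases e : ∀ g ∈ B, g 5 = 5
  · have k : B.subgroupOf (alternatingGroup (Fin 6)) = MulAction.stabilizer _ (5 : Fin 6) := by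
      have := alternatingGroup.isPretransitive_of_three_le_card (Fin 6) (by simp)
      have h2 := (MulAction.stabilizer (alternatingGroup (Fin 6)) (5 : Fin 6)).card_mul_index
      rw [MulAction.index_stabilizer_of_transitive, nat_card_alternatingGroup, Nat.card_fin] at h2
      refine eq_of_le_of_card_ge (fun x hx => e _ hx) ?_
      rcases card_even h with a | a <;> rw [a]
      · norm_num [Nat.factorial] at h2 ⊢; omega
      · exact card_le_of_le le_top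
    have k' : ∀ σ, sign σ = 1 → σ 5 = 5 → σ ∈ B := fun σ a b =>
      (k.ge : _ ≤ B.subgroupOf _) (x := ⟨σ, a⟩) b
    refine Or.inl fun σ => ⟨fun a => ⟨(Int.units_eq_one_or _).resolve_right fun b => h1 0 1 (by decide) ?_, e σ a⟩,
      fun a => k' σ a.1 a.2⟩
    have := mul_mem (k' (swap 0 1 * σ) (by rw [map_mul, b, sign_swap (by decide)]; rfl)
      (by rw [mul_apply, e σ a]; decide)) (inv_mem a)
    rwa [mul_inv_cancel_right] at this
  push Not at e
  obtain ⟨g, hg, e⟩ := e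
  obtain ⟨g, hg, -, a⟩ := norm5 hf hg
  replace a := a.resolve_left fun a => e a.1
  have hv : swap 0 1 * swap 4 5 ∈ B := by
    obtain ⟨w, -, c⟩ := forall_perm (Q := fun a b => a = 5 ∧ b = 0) (P := fun h => ∃ w ∈
      ([[0, 1, 0, 1], [0, 1, 0, 0, 1], [0, 0, 0, 1, 0, 0], [0, 1, 1, 1, 0, 0, 1], [0, 1, 0, 0, 1, 1, 1], [0, 0, 0,
      1, 0, 1, 1], [0, 1, 0, 0, 0, 0, 1], [1, 0, 0, 1, 0, 1, 0], [0, 1, 1, 1, 0, 1, 1, 1], [1, 0, 1, 0, 0, 0, 0, 1],
      [0, 0, 1, 0, 0, 1, 0, 0, 0], [0, 0, 0, 0, 1, 0, 0, 1, 0], [1, 1, 0, 1, 0, 0, 1, 1, 1], [0, 0, 0, 1, 1, 1, 0,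
      1, 1], [0, 0, 1, 0, 0, 0, 1, 0, 0, 0], [0, 0, 0, 0, 1, 0, 1, 1, 1, 0], [0, 0, 1, 1, 1, 0, 1, 0, 0, 0], [1, 0,
      0, 0, 1, 0, 1, 1, 1, 0], [0, 0, 1, 0, 1, 0, 0, 1, 0, 0, 0, 0], [0, 0, 0, 1, 0, 0, 0, 1, 0, 1, 0, 1], [0, 1, 0,
      0, 0, 0, 1, 0, 1, 0, 0, 0, 0], [0, 0, 0, 1, 0, 0, 1, 0, 1, 0, 0, 0, 0, 1]] : List (List ℕ)), ∀ x,
      ev2 ![1, 2, 4, 0, 3, 5] h (w.map (· == 1)) x = ![1, 0, 2, 3, 5, 4] x) (by decide +kernel) g a
    obtain ⟨π, b, d⟩ := exists_ev (σ := f5) (τ := g) (w.map (· == 1))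
    have cv : ⇑(swap 0 1 * swap 4 5 : Perm (Fin 6)) = ![1, 0, 2, 3, 5, 4] := by decide +kernel
    exact (Equiv.ext fun x => by rw [b, coe_f5, c, cv] : π = swap 0 1 * swap 4 5) ▸ d B hf hg
  have ev : ∀ σ ∈ B, sign σ = 1 := fun σ hσ => by
    obtain ⟨g, hg, b, a⟩ := norm5 hf hσ
    have k : ∀ u ∈ B, (∀ x, u (u (u (u (u (u x))))) = x) → sign u = 1 := fun u hu c => by
      have := odd_invol h1 h3 (mul_mem (mul_mem hu hu) hu) (Equiv.ext c)
      rwa [map_mul, map_mul, Int.units_mul_self, one_mul] at this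
    have cu : ⇑(swap 0 5 * swap 2 4 : Perm (Fin 6)) = ![5, 1, 4, 3, 2, 0] := by decide +kernel
    have hu : swap 0 5 * swap 2 4 ∈ B := by
      rw [show swap 0 5 * swap 2 4 = f5 ^ 2 * (swap 0 1 * swap 4 5) * f5 ^ 3 by decide +kernel]
      exact mul_mem (mul_mem (pow_mem hf 2) hv) (pow_mem hf 3)
    rcases forall_perm (Q := fun a b => (a = 0 ∧ b = 5) ∨ (a = 5 ∧ b = 0)) (P := fun h =>
      (∀ x, h (h (h (h (h (h x))))) = x) ∨
        ∀ x, (fun u : Fin 6 → Fin 6 => u (u (u (u (u (u x))))) = x) (h ∘ ![5, 1, 4, 3, 2, 0]))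
      (by decide +kernel) g (a.imp And.right id) with c | c
    · exact b ▸ k g hg c
    · have := k _ (mul_mem hg hu) (by rw [Perm.coe_mul, cu]; exact c)
      rwa [map_mul, map_mul, sign_swap (by decide), sign_swap (by decide), Int.units_mul_self, mul_one, b] at this
  refine Or.inr ((card_even h).symm.imp (fun c σ => ⟨ev σ, fun d => c.ge (mem_top (⟨σ, d⟩ : alternatingGroup (Fin 6)))⟩)
    fun c => ⟨(Nat.card_congr (subgroupOfEquivOfLe (H := B) ev).toEquiv).symm.trans c, ?_, hv, ?_, ev⟩)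
  · generalize hw : swap (0 : Fin 6) 1 * swap 4 5 = v at hv
    rw [show swap 0 1 * swap 2 3 = f5 * v * f5 ^ 4 * v * f5 * v by subst hw; decide +kernel]
    exact mul_mem (mul_mem (mul_mem (mul_mem (mul_mem hf hv) (pow_mem hf 4)) hv) hf) hv
  · generalize hw : swap (0 : Fin 6) 1 * swap 4 5 = v at hv
    rw [show swap 0 4 * swap 0 2 * (swap 1 5 * swap 1 3) = v * f5 ^ 2 * v * f5 by subst hw; decide +kernel]
    exact mul_mem (mul_mem (mul_mem hv (pow_mem hf 2)) hv) hf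

theorem eqns_FrD : True := by
  have := @f5.eq_1
  have := @ev2.eq_1
  have := @ev2.eq_2
  have := @ev2.eq_def
  trivial

end H28.R4.Fx
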