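import Mathlib
import Cfsg.Agent.Base
import Cfsg.Agent.Lib.R4.FrC
import Cfsg.Agent.Lib.R4.FrD

/-! Frames from elementary abelian groups and from non-solvable 2-local subgroups. -/

set_option autoImplicit false

namespace H28.R4

open Matrix Subgroup Cfsg Fx
open scoped MatrixGroups

variable {G k ι : Type*} [Group G] [Field k] [Fintype ι] [DecidableEq ι]
  {C : Cx G k ι} {p : ℕ} {γ : Fin 6 → Fin 6 → Matrix ι ι k} {b : Fin 6 → Fin 6 → G}

namespace Fx

theorem unit_refl (h : Fr γ) (h2 : (2 : k) ≠ 0) {i j : Fin 6} (e : i ≠ j) : IsUnit (1 - γ i j) :=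
  IsUnit.of_mul_eq_one ((2 : k)⁻¹ • (1 + γ i j)) (by
    rw [mul_smul_comm, sub_mul, mul_add, mul_add, h.sq e, inv_smul_eq_iff₀ h2, two_smul]
    noncomm_ring)

theorem ind_mul {X Y : Matrix ι ι k} {σ τ : Equiv.Perm (Fin 6)}
    (a : ∀ i j, ∃ c : k, X * γ i j = c • (γ (σ i) (σ j) * X))
    (e : ∀ i j, ∃ c : k, Y * γ i j = c • (γ (τ i) (τ j) * Y)) (i j : Fin 6) :
    ∃ c : k, X * Y * γ i j = c • (γ ((σ * τ) i) ((σ * τ) j) * (X * Y)) := by
  obtain ⟨c, f⟩ := e i j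
  obtain ⟨d, g⟩ := a (τ i) (τ j)
  exact ⟨c * d, by rw [mul_assoc, f, mul_smul_comm, ← mul_assoc, g, smul_mul_assoc, smul_smul, mul_assoc]; rfl⟩

theorem exists_elab [Finite G] {Q : Subgroup G} (hQ : IsPGroup 2 Q) (h1 : Q ≠ ⊥) : ∃ E : Subgroup G,
    (∀ a ∈ E, a ^ 2 = 1) ∧ (∃ t ∈ E, orderOf t = 2) ∧ normalizer (Q : Set G) ≤ normalizer (E : Set G) := by
  have := (nontrivial_iff_ne_bot Q).2 h1
  have := hQ.center_nontrivial
  obtain ⟨n, hn, e⟩ := (hQ.to_subgroup (center Q)).nontrivial_iff_card.1 this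
  obtain ⟨t, ht⟩ := exists_prime_orderOf_dvd_card' (G := center Q) 2 (e ▸ dvd_pow_self 2 hn.ne')
  let E : Subgroup G :=
    { carrier := {a | a ∈ Q ∧ (∀ x ∈ Q, Commute a x) ∧ a ^ 2 = 1}
      mul_mem' := fun a c => ⟨mul_mem a.1 c.1, fun x hx => (a.2.1 x hx).mul_left (c.2.1 x hx),
        by rw [(a.2.1 _ c.1).mul_pow, a.2.2, c.2.2, one_mul]⟩
      one_mem' := ⟨one_mem _, fun x _ => Commute.one_left x, one_pow _⟩
      inv_mem' := fun a => ⟨inv_mem a.1, fun x hx => (a.2.1 x hx).inv_left, by rw [inv_pow, a.2.2, inv_one]⟩ }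
  have ht' : orderOf (t.1.1 : G) = 2 := by rw [orderOf_coe, orderOf_coe, ht]
  refine ⟨E, fun a ha => ha.2.2, ⟨t.1.1, ⟨t.1.2, fun x hx =>
    (congrArg Subtype.val (mem_center_iff.1 t.2 ⟨x, hx⟩)).symm, ht' ▸ pow_orderOf_eq_one _⟩, ht'⟩, fun g hg =>
    mem_normalizer_fintype fun a ha => ⟨(mem_normalizer_iff.1 hg a).1 ha.1, fun x hx => ?_, by
      rw [conj_pow, ha.2.2, mul_one, mul_inv_cancel]⟩⟩
  have := (ha.2.1 _ ((mem_normalizer_iff''.1 hg x).1 hx)).conj g
  rwa [show g * (g⁻¹ * x * g) * g⁻¹ = x by group] at this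

end Fx

namespace Cx

namespace Hy
variable (H : C.Hy p)
include H

theorem rank4 : PRankLE 2 4 G := fun E _ hE => by
  rcases tri H hE with h | ⟨γ, b, h, rfl⟩
  exacts [h.trans (by norm_num), (h.card_fA H.two).le]

theorem exists_frame {E : Subgroup G} (hE : ∀ a ∈ E, a ^ 2 = 1) (h16 : Nat.card E = 16) :
    ∃ (γ : Fin 6 → Fin 6 → Matrix ι ι k) (b : Fin 6 → Fin 6 → G), C.FG γ b ∧ fA b = E :=
  (tri H hE).resolve_left (by omega)

/-- the distinguished involution of an elementary abelian group of order eight -/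
theorem rad8 (hR : C.NR) {E : Subgroup G} (hE : ∀ a ∈ E, a ^ 2 = 1) (h8 : Nat.card E = 8) :
    ∃ t ∈ E, t ≠ 1 ∧ ∀ T, C.L t T → E ≤ C.St T ∧ ∀ s ∈ E, ∀ S, C.L s S → E ≤ C.St S → s = 1 ∨ s = t := by
  obtain ⟨a, ha, b, hb, A, B, lA, lB, sA, sB, m, n, -⟩ := exists_anti H hE le_rfl fun h => by
    have := card_le_four H hE (fun a ha a1 M hM => by
      obtain ⟨T, lT, e⟩ := H.invol_bi hR (orderOf_eq_prime (hE a ha) a1)
      obtain ⟨c, -, rfl⟩ := C.uniq lT hM
      rw [trace_smul, e.2, smul_zero]) h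
    omega
  have ma : a ∈ E ⊓ C.St A := ⟨ha, (mem_St lA).2 rfl⟩
  have k1 := St_two H.two hE le_rfl ha lA sA
  have k2 := St_two H.two hE (inf_le_left (b := C.St A)) hb lB sB
  have c1 := card_eq_two_mul k1 hb m
  have c2 := card_eq_two_mul k2 ma n
  obtain ⟨t, t1, ht⟩ := (Nat.card_eq_two_iff' (1 : (E ⊓ C.St A ⊓ C.St B :))).1 (by omega)
  have k : ∀ s ∈ E ⊓ C.St A ⊓ C.St B, s = 1 ∨ s = t := fun s hs => or_iff_not_imp_left.2 fun f =>
    congrArg Subtype.val (ht ⟨s, hs⟩ fun g => f (congrArg Subtype.val g))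
  refine ⟨t, t.2.1.1, fun f => t1 (Subtype.ext f), fun T lT => ⟨le_of_two k1 hb m (le_of_two k2 ma n (fun s hs => ?_)
    (St_symm lT lA t.2.1.2)) (St_symm lT lB t.2.2), fun s hs S lS e =>
      k s ⟨⟨hs, St_symm lA lS (e ha)⟩, St_symm lB lS (e hb)⟩⟩⟩
  rcases k s hs with rfl | rfl
  exacts [one_mem _, (mem_St lT).2 rfl]

theorem fix8 (hR : C.NR) {E : Subgroup G} (hE : ∀ a ∈ E, a ^ 2 = 1) (h8 : Nat.card E = 8) :
    ∃ t ∈ E, t ≠ 1 ∧ ∀ g ∈ normalizer (E : Set G), g * t * g⁻¹ = t := by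
  obtain ⟨t, ht, t1, h⟩ := H.rad8 hR hE h8
  obtain ⟨T, lT⟩ := C.ex t
  refine ⟨t, ht, t1, fun g hg => ?_⟩
  obtain ⟨M, hM⟩ := C.ex g
  refine ((h T lT).2 _ ((mem_normalizer_iff.1 hg t).1 ht) _ (conj hM lT) fun x hx => ?_).resolve_left
    fun f => t1 (conj_eq_one_iff.1 f)
  obtain ⟨Y, lY⟩ := C.ex (g⁻¹ * x * g)
  have e := (h T lT).1 ((mem_normalizer_iff''.1 hg x).1 hx) Y lY
  have l := conj hM lY
  rw [show g * (g⁻¹ * x * g) * g⁻¹ = x by group] at l
  have k : ∀ X Y : Matrix ι ι k, M * X * M⁻¹ * (M * Y * M⁻¹) = M * (X * Y) * M⁻¹ := fun X Y => by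
    rw [mul_assoc (M * X), ← mul_assoc M⁻¹, ← mul_assoc M⁻¹, inv_mul hM, one_mul, ← mul_assoc, mul_assoc M]
  exact (mem_St l).2 (by rw [k, k, e])

theorem no_swap (h : C.FG γ b) {i j : Fin 6} (e : i ≠ j) : Equiv.swap i j ∉ fB b := fun hσ => by
  obtain ⟨g, lg, -⟩ := h.of_matrix H.two hσ (unit_refl h.toFr H.two e) (h.toFr.one_refl i j)
  have c : ∀ i j : Fin 6, i ≠ j → ∃ l m, [l, m, i, j].Nodup ∧ ∃ n o, [l, m, n, o, i, j].Nodup ∧ [l, m, n, o].Nodup := by
    decide +kernel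
  obtain ⟨l, m, -, n, o, f, f'⟩ := c i j e
  obtain ⟨c, c1, c2⟩ := h.toFr.triple C.card H.two f
  rcases H.biax (C.mul (h.lift l m) (h.lift n o)) (h.toFr.bi C.card H.two f') (x := 1) (y := c)
    (by rwa [c2, smul_smul, c1, one_smul, neg_one_smul, ← sub_eq_add_neg]) with a | a
  · exact one_ne_zero a
  · simp [a] at c1

theorem no_triple (hR : C.NR) (h : C.FG γ b) {i j l m n o : Fin 6} (e : [i, j, l, m, n, o].Nodup) :
    Equiv.swap i j * Equiv.swap l m * Equiv.swap n o ∉ fB b := by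
  obtain ⟨σ, rfl, rfl, rfl, rfl, rfl, rfl⟩ := exists_perm6 e
  have hs := FG.mem_fB_perm (b := b) σ (Equiv.swap 0 1 * Equiv.swap 2 3 * Equiv.swap 4 5)
  rw [← conj_mul, ← conj_mul, ← Equiv.swap_apply_apply, ← Equiv.swap_apply_apply, ← Equiv.swap_apply_apply] at hs
  rw [← hs]
  replace h := h.perm σ
  generalize (fun i j => γ (σ i) (σ j)) = γ at h
  generalize (fun i j => b (σ i) (σ j)) = b at h
  intro hσ
  have f := h.toFr
  obtain ⟨g, lg, ig⟩ := h.of_matrix H.two hσ (((unit_refl f H.two (i := 0) (j := 1) (by decide)).mul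
    (unit_refl f H.two (i := 2) (j := 3) (by decide))).mul (unit_refl f H.two (i := 4) (j := 5) (by decide)))
    (ind_mul (ind_mul (f.one_refl 0 1) (f.one_refl 2 3)) (f.one_refl 4 5))
  obtain ⟨c, c1, c2⟩ := f.triple C.card H.two (i := 0) (j := 1) (l := 2) (m := 3) (n := 4) (o := 5) (by decide)
  have e1 : γ 0 1 * γ 4 5 = c • γ 2 3 := by
    rw [← neg_neg (γ 4 5), ← neg_one_smul k (γ 4 5), ← c1, mul_smul, ← c2, mul_neg, mul_smul_comm, ← mul_assoc,
      f.sq (by decide), neg_one_mul, smul_neg, neg_neg]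
  have e2 : γ 2 3 * γ 4 5 = c • γ 0 1 := by
    rw [← neg_neg (γ 4 5), ← neg_one_smul k (γ 4 5), ← c1, mul_smul, ← c2, mul_neg, mul_smul_comm,
      f.comm (i := 0) (by decide), ← mul_assoc, f.sq (by decide), neg_one_mul, smul_neg, neg_neg]
  have e3 : (1 - γ 0 1) * (1 - γ 2 3) * (1 - γ 4 5) = (1 + c) • (1 + c • (γ 0 1 + γ 2 3 + γ 4 5)) := by
    simp only [mul_sub, sub_mul, one_mul, mul_one, c2, e1, e2, smul_mul_assoc, f.sq (show (4 : Fin 6) ≠ 5 by decide)]
    match_scalars <;> first | ring1 | linear_combination -c1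
  have c0 : 1 + c ≠ 0 := fun a => H.two (by linear_combination (1 - c) * a + c1)
  have lg' := C.smul lg (inv_ne_zero c0)
  rw [e3, inv_smul_smul₀ c0] at lg'
  obtain ⟨T, lT, bT⟩ := H.invol_bi hR (t := g) (orderOf_eq_prime (by
    refine (eq_one_iff (pow lg' 2)).2 ⟨4, ?_⟩
    simp only [sq, mul_add, add_mul, one_mul, mul_one, smul_mul_assoc, mul_smul_comm, smul_add, c2, e1, e2,
      ← f.comm (i := 0) (j := 1) (l := 2) (m := 3) (by decide), ← f.comm (i := 0) (j := 1) (l := 4) (m := 5) (by decide),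
      ← f.comm (i := 2) (j := 3) (l := 4) (m := 5) (by decide), f.sq (show (0 : Fin 6) ≠ 1 by decide),
      f.sq (show (2 : Fin 6) ≠ 3 by decide), f.sq (show (4 : Fin 6) ≠ 5 by decide)]
    match_scalars <;> first | linear_combination (-3) * c1 | linear_combination 2 * c * c1) (by
    rintro rfl
    exact absurd (h.ind_unique H.two ig ((h.ind_one H.two).2 (one_mem _))) (by decide +kernel)))
  obtain ⟨d, -, e4⟩ := C.uniq lT lg'
  have := congrArg trace e4
  rw [trace_smul d, bT.2, smul_zero, trace_add, trace_smul, trace_add, trace_add, f.trace C.card H.two (by decide),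
    f.trace C.card H.two (by decide), f.trace C.card H.two (by decide), C.trace_one] at this
  exact four_ne H.two (by simpa using this)

/-- a non-solvable 2-local subgroup yields one of three normalised frames -/
theorem two_local (hR : C.NR) (hS : SolC G) (hN : ¬ ∀ N : Subgroup G, IsTwoLocal N → Group.IsSolvable N) :
    ∃ (γ : Fin 6 → Fin 6 → Matrix ι ι k) (b : Fin 6 → Fin 6 → G), C.FG γ b ∧
      ((∀ σ, σ ∈ fB b ↔ Equiv.Perm.sign σ = 1 ∧ σ 5 = 5) ∨ (∀ σ, σ ∈ fB b ↔ Equiv.Perm.sign σ = 1) ∨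
        (Nat.card (fB b) = 60 ∧ Equiv.swap 0 1 * Equiv.swap 2 3 ∈ fB b ∧
          Equiv.swap 0 1 * Equiv.swap 4 5 ∈ fB b ∧
          Equiv.swap 0 4 * Equiv.swap 0 2 * (Equiv.swap 1 5 * Equiv.swap 1 3) ∈ fB b ∧
          ∀ σ ∈ fB b, Equiv.Perm.sign σ = 1)) := by
  have := H.fin
  push Not at hN
  obtain ⟨_, ⟨Q, hQ, q1, rfl⟩, hN⟩ := hN
  obtain ⟨E, hE, ⟨t, ht, t2⟩, le⟩ := exists_elab hQ q1
  replace hN : ¬ Group.IsSolvable (normalizer (E : Set G)) := fun _ =>
    hN (Group.isSolvable_of_isSolvable_injective (inclusion_injective le))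
  have ks : ∀ {K : Subgroup G} {t}, orderOf t = 2 → K ≤ centralizer {t} → Group.IsSolvable K := fun o a =>
    haveI := hS _ o
    Group.isSolvable_of_isSolvable_injective (inclusion_injective a)
  rcases tri H hE with h | ⟨γ, b, h, rfl⟩
  · refine (hN ?_).elim
    obtain ⟨n, hn⟩ := IsPGroup.iff_card.1 (show IsPGroup 2 E from fun x => ⟨1, Subtype.ext (hE x x.2)⟩)
    by_cases h8 : Nat.card E = 8
    · obtain ⟨s, hs, s1, a⟩ := H.fix8 hR hE h8
      exact ks (orderOf_eq_prime (hE s hs) s1) fun g hg =>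
        mem_centralizer_singleton_iff.2 (mul_inv_eq_iff_eq_mul.1 (a g hg))
    have h4 : Nat.card E ≤ 4 := by
      rw [hn] at h h8 ⊢
      have : n ≤ 3 := (Nat.pow_le_pow_iff_right one_lt_two).1 h
      interval_cases n <;> omega
    have : Group.IsSolvable (MulAut E) := by
      by_contra f
      have h1 := (H83.R4.sixty_le f).trans (Nat.card_le_card_of_injective (MulAut.toPerm E) fun _ _ e =>
        MulEquiv.toEquiv_injective e)
      rw [Nat.card_perm] at h1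
      exact absurd (h1.trans (Nat.factorial_le h4)) (by decide)
    have := ks t2 (centralizer_le (Set.singleton_subset_iff.2 ht) : centralizer (E : Set G) ≤ _)
    have : Group.IsSolvable E.normalizerMonoidHom.ker := by
      rw [normalizerMonoidHom_ker]
      exact Group.isSolvable_of_isSolvable_injective
        (f := (subgroupOfEquivOfLe (centralizer_le_normalizer _)).toMonoidHom) (MulEquiv.injective _)
    exact Group.isSolvable_of_ker_le_range E.normalizerMonoidHom.ker.subtype E.normalizerMonoidHom (by simp)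
  have ns : ∀ {γ : Fin 6 → Fin 6 → Matrix ι ι k} {b' : Fin 6 → Fin 6 → G}, C.FG γ b' → fA b' = fA b →
      ¬ Group.IsSolvable (fB b') := fun h' e f => by
    obtain ⟨s, -, a, c⟩ := h'.exists_sg H.two
    rw [← a] at f
    have := ks t2 (show fA b ≤ centralizer {t} from fun x hx => mem_centralizer_singleton_iff.2 (ecomm hE hx ht))
    rw [← e] at hN this
    exact hN (Group.isSolvable_of_ker_le_range (inclusion le_normalizer) s.rangeRestrict (by
      rw [MonoidHom.ker_rangeRestrict, c, inclusion_range]))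
  obtain ⟨σ, a⟩ := exists_f5 (ns h rfl)
  exact ⟨_, _, h.perm σ, s6 (ns (h.perm σ) (FG.fA_perm σ)) (fun _ _ => H.no_swap (h.perm σ))
    (fun _ _ _ _ _ _ => H.no_triple hR (h.perm σ)) ((FG.mem_fB_perm σ f5).2 a)⟩

end Hy

end Cx

end H28.R4
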