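import Mathlib
import Cfsg.Agent.Base
import Cfsg.Agent.Lib.R4.Frame

/-! RES4 package N0b, part A: eigenvalue arguments (helper80) -/

set_option autoImplicit false
set_option linter.unusedSectionVars false
set_option linter.style.haveILetI false

namespace H28.R4.N0x

open Matrix Subgroup Cfsg Module

variable {G k ι : Type*} [Group G] [Field k] [Fintype ι] [DecidableEq ι] {C : Cx G k ι} {p : ℕ}

section lin
variable {X Y Z : Matrix ι ι k} {S : Submodule k (ι → k)}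

theorem exists_eig [IsAlgClosed k] (hS : S ≠ ⊥) (h : ∀ v ∈ S, X *ᵥ v ∈ S) :
    ∃ c : k, ∃ v ∈ S, v ≠ 0 ∧ X *ᵥ v = c • v := by
  haveI := Submodule.nontrivial_iff_ne_bot.2 hS
  obtain ⟨c, hc⟩ := End.exists_eigenvalue ((toLin' X).restrict (p := S) (q := S) h)
  obtain ⟨v, hv⟩ := hc.exists_hasEigenvector
  exact ⟨c, v, v.2, fun e => hv.2 (Subtype.ext e), congrArg Subtype.val hv.apply_eq_smul⟩

theorem pow_eig {c : k} {v : ι → k} (h : X *ᵥ v = c • v) (n : ℕ) : (X ^ n) *ᵥ v = c ^ n • v := by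
  induction n with
  | zero => simp
  | succ n ih => rw [pow_succ', ← mulVec_mulVec, ih, mulVec_smul, h, smul_smul, pow_succ]

theorem eig_pow {c : k} {v : ι → k} (h : X *ᵥ v = c • v) (v0 : v ≠ 0) {n : ℕ} (e : X ^ n = 1) : c ^ n = 1 := by
  have := pow_eig h n
  rw [e, one_mulVec] at this
  exact smul_left_injective k v0 (this.symm.trans (one_smul k v).symm)

theorem exists_eig_ne [IsAlgClosed k] {n : ℕ} (hn : (n : k) ≠ 0) (h : X ^ n = 1) (h1 : X ≠ 1) :
    ∃ (c : k) (v : ι → k), c ≠ 1 ∧ v ≠ 0 ∧ X *ᵥ v = c • v := by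
  obtain ⟨c, _, ⟨u, rfl⟩, v0, e⟩ := exists_eig (X := X) (S := LinearMap.range (toLin' (X - 1)))
    (fun e => h1 (sub_eq_zero.1 (toLin'.injective (by rw [LinearMap.range_eq_bot.1 e, map_zero]))))
    (by
      rintro _ ⟨u, rfl⟩
      exact ⟨X *ᵥ u, by simp only [toLin'_apply, mulVec_mulVec, sub_mul, mul_sub, one_mul, mul_one]⟩)
  refine ⟨c, _, fun c1 => v0 ?_, v0, e⟩
  rw [toLin'_apply] at e ⊢
  rw [c1, one_smul] at e
  have k : ∀ m : ℕ, (X ^ m) *ᵥ u = u + (m : k) • (X - 1) *ᵥ u := fun m => by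
    induction m with
    | zero => simp
    | succ m ih =>
      rw [pow_succ', ← mulVec_mulVec, ih, mulVec_add, mulVec_smul, e, Nat.cast_succ, add_smul, one_smul, sub_mulVec,
        one_mulVec]
      abel
  have := k n
  rw [h, one_mulVec, left_eq_add] at this
  exact (smul_eq_zero.1 this).resolve_left hn

theorem le_finrank {n : ℕ} (μ : Fin n → k) (hμ : Function.Injective μ) (v : Fin n → ι → k)
    (h : ∀ i, v i ∈ S ∧ v i ≠ 0 ∧ X *ᵥ v i = μ i • v i) : n ≤ finrank k S := by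
  have := End.eigenvectors_linearIndependent' (toLin' X) μ hμ v fun i =>
    ⟨End.mem_eigenspace_iff.2 (h i).2.2, (h i).2.1⟩
  simpa using (LinearIndependent.of_comp S.subtype (v := fun i => (⟨v i, (h i).1⟩ : S)) this).fintype_card_le_finrank

theorem mulVec_ne {n : ℕ} (hn : n ≠ 0) (h : X ^ n = 1) {v : ι → k} (v0 : v ≠ 0) : X *ᵥ v ≠ 0 := fun e => by
  have := eig_pow (c := 0) (e.trans (zero_smul k v).symm) v0 h
  rw [zero_pow hn] at this
  exact zero_ne_one this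

theorem three_le [IsAlgClosed k] (x3 : X ^ 3 = 1) (y3 : Y ^ 3 = 1) (z3 : Z ^ 3 = 1) (e : X * Y = Z * (Y * X))
    (zx : Z * X = X * Z) (zy : Z * Y = Y * Z) {θ : k} (h1 : θ ≠ 1) {v : ι → k} (v0 : v ≠ 0)
    (hv : Z *ᵥ v = θ • v) : 3 ≤ finrank k (End.eigenspace (toLin' Z) θ) := by
  have t3 := eig_pow hv v0 z3
  have inv : ∀ A, Z * A = A * Z → ∀ u ∈ End.eigenspace (toLin' Z) θ, A *ᵥ u ∈ End.eigenspace (toLin' Z) θ :=
    fun A h u hu => by
      rw [End.mem_eigenspace_iff, toLin'_apply] at hu ⊢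
      rw [mulVec_mulVec, h, ← mulVec_mulVec, hu, mulVec_smul]
  obtain ⟨μ, w, hw, w0, e1⟩ := exists_eig (X := Y) (S := End.eigenspace (toLin' Z) θ)
    ((Submodule.ne_bot_iff _).2 ⟨v, End.mem_eigenspace_iff.2 hv, v0⟩) (inv Y zy)
  have st : ∀ ν u, (u ∈ End.eigenspace (toLin' Z) θ ∧ u ≠ 0 ∧ Y *ᵥ u = ν • u) →
      X *ᵥ u ∈ End.eigenspace (toLin' Z) θ ∧ X *ᵥ u ≠ 0 ∧ Y *ᵥ X *ᵥ u = (θ ^ 2 * ν) • X *ᵥ u :=
    fun ν u ⟨a, b, c⟩ => by
      refine ⟨inv X zx u a, mulVec_ne (by decide) x3 b, ?_⟩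
      have d : Z *ᵥ _ = _ := End.mem_eigenspace_iff.1 (inv Y zy _ (inv X zx u a))
      rw [mulVec_mulVec, mulVec_mulVec, mul_assoc, ← e, ← mulVec_mulVec, c, mulVec_smul] at d
      rw [mul_smul, d, smul_smul, ← pow_succ, t3, one_smul]
  have m0 : μ ≠ 0 := fun e => mulVec_ne (by decide) y3 w0 (by rw [e1, e, zero_smul])
  have t2 : θ ^ 2 ≠ 1 := fun e => h1 (by rw [← t3, pow_succ, e, one_mul])
  have t0 : θ ^ 2 ≠ 0 := fun e => by rw [pow_succ, e, zero_mul] at t3; exact zero_ne_one t3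
  have t4 : θ ^ 2 * θ ^ 2 ≠ 1 := fun e => h1 (by linear_combination e - θ * t3)
  refine le_finrank (X := Y) ![μ, θ ^ 2 * μ, θ ^ 2 * (θ ^ 2 * μ)] ?_ ![w, X *ᵥ w, X *ᵥ X *ᵥ w] fun i => ?_
  · intro i j h
    fin_cases i <;> fin_cases j <;> simp_all [← mul_assoc, eq_comm]
  · fin_cases i
    exacts [⟨hw, w0, e1⟩, st _ _ ⟨hw, w0, e1⟩, st _ _ (st _ _ ⟨hw, w0, e1⟩)]

theorem comm2 {a x y : Matrix (Fin 2) (Fin 2) k} (h2 : (2 : k) ≠ 0) (a1 : a * a = 1) (t : a.trace = 0)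
    (hx : x * a = a * x) (hy : y * a = a * y) : x * y = y * x := by
  have key : ∀ z : Matrix (Fin 2) (Fin 2) k, z * a = a * z → ∃ s t : k, z = s • 1 + t • a := fun z hz => by
    have e0 := congrFun (congrFun hz 0) 0
    have e1 := congrFun (congrFun hz 0) 1
    have e2 := congrFun (congrFun hz 1) 0
    have e3 := congrFun (congrFun a1 0) 0
    rw [trace_fin_two] at t
    simp only [mul_apply, Fin.sum_univ_two, one_apply_eq] at e0 e1 e2 e3
    refine ⟨(z 0 0 + z 1 1) / 2, (a 0 0 * (z 0 0 - z 1 1) + a 0 1 * z 1 0 + a 1 0 * z 0 1) / 2, ?_⟩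
    have a3 : a 1 1 = -a 0 0 := by linear_combination t
    rw [a3] at e1 e2
    ext i j
    fin_cases i <;> fin_cases j <;> simp [a3] <;> field_simp
    all_goals grind
  obtain ⟨s, t, rfl⟩ := key x hx
  obtain ⟨s', t', rfl⟩ := key y hy
  simp only [add_mul, mul_add, smul_mul_assoc, mul_smul_comm, one_mul, mul_one]
  module

theorem tr_blocks (a b c d : Matrix (Fin 2) (Fin 2) k) : (fromBlocks a b c d).trace = a.trace + d.trace := by
  simp [trace, Fintype.sum_sum_type]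

theorem comm_of_two (h4 : Fintype.card ι = 4) (h2 : (2 : k) ≠ 0) {U W M N : Matrix ι ι k} (hU : Bi U) (hW : Bi W)
    (t : (U * W).trace = 0) (e : W * U = U * W) (m1 : M * U = U * M) (m2 : M * W = W * M) (n1 : N * U = U * N)
    (n2 : N * W = W * N) : M * N = N * M := by
  obtain ⟨B, B', b1, b2, b3⟩ := hU.exists_diag h4 h2
  have mu : ∀ P Q : Matrix ι ι k, B * (P * Q) * B' = B * P * B' * (B * Q * B') := fun P Q => by
    calc _ = B * P * (B' * B) * Q * B' := by rw [b2]; simp only [Matrix.mul_assoc, Matrix.one_mul]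
      _ = _ := by simp only [Matrix.mul_assoc]
  have tr : ∀ P : Matrix ι ι k, (B * P * B').trace = P.trace := fun P => by
    rw [trace_mul_comm, ← Matrix.mul_assoc, b2, Matrix.one_mul]
  have bl : ∀ P : Matrix ι ι k, P * U = U * P → ∃ a d, B * P * B' = fromBlocks a 0 0 d := fun P h =>
    (comm_S0 h2).1 (by rw [← b3, ← mu, ← mu, h])
  obtain ⟨a, d, hw⟩ := bl W e
  obtain ⟨x, x', hm⟩ := bl M m1
  obtain ⟨y, y', hn⟩ := bl N n1
  have w1 := mu W W
  have t1 := tr W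
  have t2 := tr (U * W)
  have c1 := (mu M W).symm.trans ((congrArg (fun P => B * P * B') m2).trans (mu W M))
  have c2 := (mu N W).symm.trans ((congrArg (fun P => B * P * B') n2).trans (mu W N))
  rw [hW.1, Matrix.mul_one, b1, hw, fromBlocks_multiply, ← fromBlocks_one] at w1
  rw [mu, b3, t] at t2
  rw [hW.2] at t1
  simp only [hw, hm, hn, fromBlocks_multiply, fromBlocks_inj, Matrix.mul_zero, Matrix.zero_mul, add_zero, zero_add,
    Matrix.one_mul, true_and, tr_blocks, Matrix.neg_mul, trace_neg] at w1 t1 t2 c1 c2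
  have ta : a.trace = 0 := mul_left_cancel₀ h2 (by linear_combination t1 + t2)
  have td : d.trace = 0 := by linear_combination t1 - ta
  have : B * (M * N) * B' = B * (N * M) * B' := by
    rw [mu, mu, hm, hn, fromBlocks_multiply, fromBlocks_multiply]
    simp [comm2 h2 w1.1.symm ta c1.1 c2.1, comm2 h2 w1.2.symm td c1.2 c2.2]
  have := congrArg (fun P => B' * P * B) this
  simpa only [Matrix.mul_assoc, b2, Matrix.mul_one, ← Matrix.mul_assoc B' B, Matrix.one_mul] using this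

end lin

/-- a lift normalised by `M ^ n = 1`, `det M = 1` -/
structure NL (C : Cx G k ι) (n : ℕ) (g : G) (M : Matrix ι ι k) : Prop where
  l : C.L g M
  pow : M ^ n = 1
  det : M.det = 1

section nl
variable {n a : ℕ} {g h : G} {M N : Matrix ι ι k}

theorem exists_nl [IsAlgClosed k] (hn : n ≠ 0) (ha : n ∣ 4 * a + 1) (hg : g ^ n = 1) : ∃ M, NL C n g M := by
  obtain ⟨M, h1, h2⟩ := C.exists_pow hn hg
  have d : M.det ^ n = 1 := by rw [← det_pow, h2, det_one]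
  obtain ⟨b, hb⟩ := ha
  refine ⟨M.det ^ a • M, C.smul h1 (pow_ne_zero _ (Cx.det_ne h1)), ?_, ?_⟩
  · rw [_root_.smul_pow, h2, ← pow_mul, mul_comm, pow_mul, d, one_pow, one_smul]
  · rw [C.det_smul', ← pow_mul, ← pow_succ, mul_comm, hb, pow_mul, d, one_pow]

theorem NL.uniq (ha : n ∣ 4 * a + 1) (h1 : NL C n g M) (h2 : NL C n g N) : M = N := by
  obtain ⟨c, -, rfl⟩ := C.uniq h1.l h2.l
  haveI := C.nonempty
  have e1 := h2.pow
  have e2 := h2.det
  rw [_root_.smul_pow, h1.pow] at e1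
  rw [C.det_smul', h1.det, mul_one] at e2
  have e3 : c ^ n = 1 := smul_left_injective k (one_ne_zero (α := Matrix ι ι k)) (e1.trans (one_smul k _).symm)
  obtain ⟨b, hb⟩ := ha
  have : c ^ (4 * a + 1) = 1 := by rw [hb, pow_mul, e3, one_pow]
  rw [pow_succ, pow_mul, e2, one_pow, one_mul] at this
  rw [this, one_smul]

theorem NL.cj (h1 : NL C n g M) (h2 : C.L h N) : NL C n (h * g * h⁻¹) (N * M * N⁻¹) := by
  obtain ⟨u, rfl⟩ := Cx.unit h2
  refine ⟨Cx.conj h2 h1.l, ?_, ?_⟩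
  · rw [← coe_units_inv, Units.conj_pow, h1.pow, mul_one, Units.mul_inv]
  · rw [det_mul, det_mul, h1.det, mul_one, ← det_mul, Cx.mul_inv h2, det_one]

theorem NL.pw (h1 : NL C n g M) (m : ℕ) : NL C n (g ^ m) (M ^ m) :=
  ⟨Cx.pow h1.l m, by rw [← pow_mul, mul_comm, pow_mul, h1.pow, one_pow], by rw [det_pow, h1.det, one_pow]⟩

theorem NL.ne (h1 : NL C n g M) (h : g ≠ 1) : M ≠ 1 := fun e => h (C.inj (e ▸ h1.l) C.one)

theorem mul_eq (h2 : C.L h N) {A B : Matrix ι ι k} (e : N * A * N⁻¹ = B) : N * A = B * N := by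
  rw [← e, mul_assoc, Cx.inv_mul h2, mul_one]

theorem eig_cj (h2 : C.L h N) {A : Matrix ι ι k} {m : ℕ} (e : N * A * N⁻¹ = A ^ m) {c : k} {v : ι → k}
    (hv : v ≠ 0 ∧ A *ᵥ v = c • v) : N⁻¹ *ᵥ v ≠ 0 ∧ A *ᵥ N⁻¹ *ᵥ v = c ^ m • N⁻¹ *ᵥ v := by
  refine ⟨fun k => hv.1 ?_, ?_⟩
  · rw [← one_mulVec v, ← Cx.mul_inv h2, ← mulVec_mulVec, k, mulVec_zero]
  · rw [← mulVec_smul, ← pow_eig hv.2, ← e, mulVec_mulVec, mulVec_mulVec, ← mul_assoc, ← mul_assoc, Cx.inv_mul h2,
      one_mul]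

end nl

theorem no11 (H : C.Hy p) (h11 : ((11 : ℕ) : k) ≠ 0) {x g : G} (x1 : x ≠ 1) (ox : x ^ 11 = 1)
    (e : g * x * g⁻¹ = x ^ 3) : False := by
  haveI := H.closed
  obtain ⟨X, hX⟩ := exists_nl (C := C) (a := 8) (by decide) (by decide) ox
  obtain ⟨N, hN⟩ := C.ex g
  have e1 := NL.uniq (a := 8) (by decide) (hX.cj hN) (e ▸ hX.pw 3)
  obtain ⟨c, v, c1, hv⟩ := exists_eig_ne h11 hX.pow (hX.ne x1)
  haveI : Fact (Nat.Prime 11) := ⟨by norm_num⟩
  have o := orderOf_eq_prime (eig_pow hv.2 hv.1 hX.pow) c1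
  have k : ∀ i : ℕ, ∃ w, w ≠ 0 ∧ X *ᵥ w = c ^ 3 ^ i • w := fun i => by
    induction i with
    | zero => exact ⟨v, by simpa using hv⟩
    | succ i ih => exact ih.elim fun w hw => ⟨_, by simpa only [← pow_mul, ← pow_succ] using eig_cj hN e1 hw⟩
  choose w hw using k
  have := le_finrank (S := ⊤) (X := X) (n := 5) (fun i => c ^ 3 ^ i.1) (fun i j h => by
    have c0 : c ≠ 0 := fun e => by simp [e] at o
    have := (pow_eq_pow_iff_modEq (x := Units.mk0 c c0)).1 (Units.ext (by simpa using h))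
    rw [← orderOf_units, Units.val_mk0, o] at this
    exact (by decide : ∀ i j : Fin 5, 3 ^ i.1 ≡ 3 ^ j.1 [MOD 11] → i = j) i j this) (fun i => w i) fun i => ⟨trivial, hw i⟩
  rw [finrank_top, finrank_fintype_fun_eq_card, C.card] at this
  omega

theorem pg3 {G : Type*} [Group G] [Finite G] {x : G} (h : x ^ 3 = 1) : IsPGroup 3 (zpowers x) :=
  fun ⟨_, n, rfl⟩ => ⟨1, Subtype.ext (by
    change (x ^ n) ^ 3 ^ 1 = 1
    rw [pow_one, ← _root_.zpow_natCast, ← _root_.zpow_mul, mul_comm, _root_.zpow_mul, _root_.zpow_natCast, h,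
      _root_.one_zpow])⟩

theorem heis (H : C.Hy p) {x y z g : G} (x3 : x ^ 3 = 1) (y3 : y ^ 3 = 1) (z3 : z ^ 3 = 1) (z1 : z ≠ 1)
    (e : x * y = z * (y * x)) (zx : z * x = x * z) (zy : z * y = y * z) (r : z * g * z = g) : False := by
  haveI := H.closed
  haveI := H.fin
  haveI := H.char
  by_cases h3 : ((3 : ℕ) : k) = 0
  · obtain rfl : p = 3 := (Nat.prime_dvd_prime_iff_eq H.prime Nat.prime_three).1 ((CharP.cast_eq_zero_iff k p 3).1 h3)
    have nz : ∀ a, z * a = a * z → a ∈ normalizer (zpowers z : Set G) := fun a h =>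
      centralizer_le_normalizer _ (by rw [zpowers_eq_closure, centralizer_closure]; simpa [mem_centralizer_iff] using h)
    have n2 : x ∈ normalizer ((zpowers z ⊔ zpowers y : Subgroup G) : Set G) := by
      refine mem_normalizer_fintype fun a ha => ?_
      have : zpowers z ⊔ zpowers y ≤ (zpowers z ⊔ zpowers y).comap (MulAut.conj x).toMonoidHom := by
        refine sup_le (zpowers_le.2 ?_) (zpowers_le.2 ?_)
        · change x * z * x⁻¹ ∈ zpowers z ⊔ zpowers y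
          rw [← zx, mul_inv_cancel_right]; exact mem_sup_left (mem_zpowers z)
        · change x * y * x⁻¹ ∈ zpowers z ⊔ zpowers y
          rw [e, ← mul_assoc, mul_inv_cancel_right]; exact mul_mem_sup (mem_zpowers z) (mem_zpowers y)
      exact this ha
    have := H.pcomm (((pg3 z3).to_sup_of_normal_left' (pg3 y3) (zpowers_le.2 (nz y zy))).to_sup_of_normal_left'
      (pg3 x3) (zpowers_le.2 n2)) (mem_sup_right (mem_zpowers x)) (mem_sup_left (mem_sup_right (mem_zpowers y)))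
    exact z1 (by rwa [this, right_eq_mul] at e)
  obtain ⟨X, hX⟩ := exists_nl (C := C) (a := 2) (by decide) (by decide) x3
  obtain ⟨Y, hY⟩ := exists_nl (C := C) (a := 2) (by decide) (by decide) y3
  obtain ⟨Z, hZ⟩ := exists_nl (C := C) (a := 2) (by decide) (by decide) z3
  obtain ⟨N, hN⟩ := C.ex g
  have u := fun {g M N} => NL.uniq (C := C) (n := 3) (a := 2) (g := g) (M := M) (N := N) (by decide)
  have e1 := (mul_eq hX.l (u (hZ.cj hX.l) (by rwa [← zx, mul_inv_cancel_right]))).symm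
  have e2 := (mul_eq hY.l (u (hZ.cj hY.l) (by rwa [← zy, mul_inv_cancel_right]))).symm
  have e3 := mul_eq hX.l (u (hY.cj hX.l) (N := Z * Y) ⟨by
    rw [e, ← mul_assoc, mul_inv_cancel_right]; exact C.mul hZ.l hY.l, by
    rw [Commute.mul_pow e2, hZ.pow, hY.pow, one_mul], by rw [det_mul, hZ.det, hY.det, one_mul]⟩)
  have e4 := u (hZ.cj hN) ((show z ^ 2 = g * z * g⁻¹ by
    rw [eq_mul_inv_iff_mul_eq, ← mul_right_inj z, ← mul_assoc, ← pow_succ', z3, one_mul, ← mul_assoc, r]) ▸ hZ.pw 2)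
  obtain ⟨θ, v, t1, hv⟩ := exists_eig_ne h3 hZ.pow (hZ.ne z1)
  have t3 := eig_pow hv.2 hv.1 hZ.pow
  have hv' := eig_cj hN e4 hv
  have t2 : θ ^ 2 ≠ 1 := fun e => t1 (by rw [← t3, pow_succ, e, one_mul])
  have a1 := three_le hX.pow hY.pow hZ.pow (e3.trans (mul_assoc _ _ _)) e1 e2 t1 hv.1 hv.2
  have a2 := three_le hX.pow hY.pow hZ.pow (e3.trans (mul_assoc _ _ _)) e1 e2 t2 hv'.1 hv'.2
  have := Submodule.finrank_add_finrank_le_of_disjoint ((End.eigenspaces_iSupIndep (toLin' Z)).pairwiseDisjoint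
    (show θ ≠ θ ^ 2 from fun e => t1 (by linear_combination (θ + 1) * e + t3)))
  rw [finrank_fintype_fun_eq_card, C.card] at this
  omega

theorem sq_St (H : C.Hy p) {t x : G} {T : Matrix ι ι k} (ht : C.L t T) (hT : T * T = 1) (e : x * t = t * x) :
    x * x ∈ C.St T := by
  obtain ⟨X, hX⟩ := C.ex x
  rcases Cx.comm_cases H.two ht hT hX e with h | h
  · exact mul_mem ((Cx.mem_St hX).2 h) ((Cx.mem_St hX).2 h)
  · exact Cx.mul_mem_St hX hX h h

/-- squares in the centraliser of a four-group one of whose involutions is such a square commute -/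
theorem sq_comm (H : C.Hy p) (hR : C.NR) {u w s x y : G} (ou : orderOf u = 2) (ow : orderOf w = 2)
    (ouw : orderOf (u * w) = 2) (hs : s * s = w) (su : s * u = u * s) (xu : x * u = u * x) (xw : x * w = w * x)
    (yu : y * u = u * y) (yw : y * w = w * y) : x * x * (y * y) = y * y * (x * x) := by
  obtain ⟨U, lU, hU⟩ := H.invol_bi hR ou
  obtain ⟨W, lW, hW⟩ := H.invol_bi hR ow
  obtain ⟨T, lT, hT⟩ := H.invol_bi hR ouw
  obtain ⟨c, -, e⟩ := C.uniq lT (C.mul lU lW)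
  obtain ⟨M, hM⟩ := C.ex (x * x)
  obtain ⟨N, hN⟩ := C.ex (y * y)
  refine (Cx.comm_iff hM hN).2 ⟨1, (comm_of_two C.card H.two hU hW (by rw [e, trace_smul, hT.2, smul_zero])
    ((hs ▸ sq_St H lU hU.1 su) W lW) (sq_St H lU hU.1 xu M hM) (sq_St H lW hW.1 xw M hM)
    (sq_St H lU hU.1 yu N hN) (sq_St H lW hW.1 yw N hN)).trans (one_smul _ _).symm⟩

/-- an elementary abelian group of order eight consisting of squares of its centraliser -/
theorem no_sq8 (H : C.Hy p) (hR : C.NR) {E : Subgroup G} (hE : ∀ a ∈ E, a ^ 2 = 1) (h8 : Nat.card E = 8)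
    (h : ∀ a ∈ E, ∃ x, x * x = a ∧ ∀ b ∈ E, x * b = b * x) : False := by
  haveI := H.closed
  haveI := H.fin
  obtain ⟨t, -, -, ht⟩ := H.rad8 hR hE h8
  obtain ⟨T, hT⟩ := C.ex t
  have : (E : Set G) ⊆ {1, t} := fun s hs => by
    obtain ⟨S, h1, h2⟩ := C.exists_pow two_ne_zero (hE s hs)
    refine (ht T hT).2 s hs S h1 fun a ha => ?_
    obtain ⟨x, rfl, hx⟩ := h a ha
    exact sq_St H h1 (sq S ▸ h2) (hx s hs)
  have := (Set.ncard_le_ncard this).trans (Set.ncard_insert_le _ _)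
  rw [Set.ncard_singleton, ← Nat.card_coe_set_eq, SetLike.coe_sort_coe, h8] at this
  omega

theorem perm6 : ∀ σ : Equiv.Perm (Fin 6), σ ^ 4 = 1 ∨ σ ^ 5 = 1 ∨ σ ^ 6 = 1 := by decide +kernel

/-- an element acting on an elementary abelian group of order at least eight -/
theorem no_cyc (H : C.Hy p) (hR : C.NR) {E : Subgroup G} (hE : ∀ a ∈ E, a ^ 2 = 1) {n : ℕ} (h3 : 3 ≤ n)
    (hn : Nat.card E = 2 ^ n) {d : G} (hd : d ∈ normalizer (E : Set G))
    (h : ∀ a ∈ E, ∀ m, d ^ m * a = a * d ^ m → a = 1 ∨ 2 ^ n - 1 ∣ m) : False := by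
  haveI := H.fin
  have h4 := H.rank4 E ⟨⟨fun a b => Subtype.ext (by
    have i : ∀ a ∈ E, a⁻¹ = a := fun a ha => inv_eq_of_mul_eq_one_right (sq a ▸ hE a ha)
    change a.1 * b.1 = b.1 * a.1
    rw [← i _ (mul_mem a.2 b.2), _root_.mul_inv_rev, i _ a.2, i _ b.2])⟩⟩ hE
  rw [hn, Nat.pow_le_pow_iff_right (by decide)] at h4
  interval_cases n
  · obtain ⟨t, ht, t1, e⟩ := H.fix8 hR hE hn
    simpa [t1] using h t ht 1 (by rw [pow_one, ← mul_inv_eq_iff_eq_mul, e d hd])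
  · obtain ⟨γ, b, F, rfl⟩ := H.exists_frame hE hn
    obtain ⟨s, h1, -, -⟩ := Cx.FG.exists_sg F H.two
    have k : ∀ m, s ⟨d, hd⟩ ^ m = 1 → 15 ∣ m := fun m e => by
      have := h1 (⟨d, hd⟩ ^ m) 0 1
      rw [map_pow, e] at this
      refine (h (b 0 1) ((F.mem_fA H.two).2 ⟨0, 1, rfl⟩) m (mul_inv_eq_iff_eq_mul.1 this)).resolve_left fun e => ?_
      simpa [e] using F.order H.two (show (0 : Fin 6) ≠ 1 by decide)
    rcases perm6 (s ⟨d, hd⟩) with e | e | e <;> exact absurd (k _ e) (by decide)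

end H28.R4.N0x
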