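import Mathlib
import Cfsg.Agent.Base
import Cfsg.Agent.Lib.R4.N0bA
import Cfsg.Agent.Lib.R4.E9
import Cfsg.Agent.Lib.M24Geom.ClsM11
import Cfsg.Agent.Lib.Suzuki.LieModel
import Cfsg.Agent.S0420

/-! RES4 package N0b, part B: `L₂(2ⁿ)`, `Sz(q)`, `M₁₁` (helper80) -/

set_option autoImplicit false
set_option linter.unusedSectionVars false
set_option linter.style.haveILetI false

namespace H28.R4.N0x

open Matrix Subgroup Cfsg
open scoped MatrixGroups

variable {G k ι : Type*} [Group G] [Field k] [Fintype ι] [DecidableEq ι] {C : Cx G k ι} {p : ℕ}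

/-- upper unitriangular matrices -/
def up (K : Type*) [Field K] : Multiplicative K →* SL(2, K) where
  toFun a := ⟨!![1, a.toAdd; 0, 1], by simp [det_fin_two_of]⟩
  map_one' := Subtype.ext (by simp [one_fin_two])
  map_mul' a b := Subtype.ext (show _ = !![1, a.toAdd; 0, 1] * !![1, b.toAdd; 0, 1] by simp [add_comm])

theorem l2 (H : C.Hy p) (hR : C.NR) {K : Type} [Field K] [Fintype K] (h2 : (2 : K) = 0) (h4 : 4 < Fintype.card K)
    (e : G ≃* PSL(2, K)) : False := by
  classical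
  haveI : CharP K 2 := CharTwo.of_one_ne_zero_of_two_eq_zero one_ne_zero h2
  obtain ⟨n, -, hn⟩ := FiniteField.card K 2
  obtain ⟨f, fi⟩ : ∃ f : SL(2, K) →* G, Function.Injective f := by
    refine ⟨e.symm.toMonoidHom.comp (QuotientGroup.mk' _), e.symm.injective.comp
      ((injective_iff_map_eq_one (QuotientGroup.mk' _)).2 fun A hA => ?_)⟩
    obtain ⟨r, h1, h⟩ := Matrix.SpecialLinearGroup.mem_center_iff.1 ((QuotientGroup.eq_one_iff A).1 hA)
    obtain rfl : r = 1 := by
      rw [Fintype.card_fin] at h1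
      exact sub_eq_zero.1 (pow_eq_zero_iff two_ne_zero |>.1 (by linear_combination h1 + (1 - r) * h2))
    exact Subtype.ext (by simpa using h.symm)
  have ui : Function.Injective (up K) := fun a b h => congrArg (fun A : SL(2, K) => A 0 1) h
  obtain ⟨μ, hμ⟩ := IsCyclic.exists_ofOrder_eq_natCard (α := Kˣ)
  obtain ⟨l, hl⟩ := isSquare_of_charTwo' (μ : K)
  have l0 : l ≠ 0 := fun e => μ.ne_zero (by simp [hl, e])
  let d : SL(2, K) := ⟨!![l, 0; 0, l⁻¹], by simp [det_fin_two_of, l0]⟩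
  have cj : ∀ a : K, d * up K (.ofAdd a) = up K (.ofAdd (μ * a)) * d := fun a =>
    Subtype.ext (show !![l, 0; 0, l⁻¹] * !![1, a; 0, 1] = !![1, μ * a; 0, 1] * !![l, 0; 0, l⁻¹] by
      simp [hl, mul_right_comm _ a, mul_assoc, l0])
  have cm : ∀ (m : ℕ) (a : K), d ^ m * up K (.ofAdd a) = up K (.ofAdd ((μ ^ m : Kˣ) * a)) * d ^ m := fun m => by
    induction m with
    | zero => simp
    | succ m ih => intro a; rw [pow_succ, mul_assoc, cj, ← mul_assoc, ih, pow_succ, Units.val_mul, mul_assoc, mul_assoc]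
  refine no_cyc H hR (E := (f.comp (up K)).range) (n := n) (d := f d) ?_ ?_ ?_ ?_ ?_
  · rintro _ ⟨a, rfl⟩
    rw [← map_pow, show a ^ 2 = 1 from sq a ▸ CharTwo.add_self_eq_zero a.toAdd, map_one]
  · rw [hn] at h4
    exact (Nat.pow_lt_pow_iff_right (a := 2) (n := 2) (by decide)).1 h4
  · rw [← Nat.card_congr (MonoidHom.ofInjective (f := f.comp (up K)) (fi.comp ui)).toEquiv, ← hn]
    simp
  · haveI := H.fin
    refine mem_normalizer_fintype ?_
    rintro _ ⟨a, rfl⟩
    exact ⟨.ofAdd (μ * a.toAdd), by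
      rw [eq_mul_inv_iff_mul_eq, MonoidHom.comp_apply, MonoidHom.comp_apply, ← map_mul, ← map_mul, ← cj]; rfl⟩
  · rintro _ ⟨a, rfl⟩ m h
    rw [MonoidHom.comp_apply, ← map_pow, ← map_mul, ← map_mul] at h
    have h1 : ((μ ^ m : Kˣ) : K) * a.toAdd = a.toAdd := ui (mul_right_cancel ((cm m a.toAdd).symm.trans (fi h)))
    rcases mul_left_eq_self₀.1 h1 with h | h
    · rw [← hn, ← Fintype.card_units, ← Nat.card_eq_fintype_card, ← hμ]
      exact .inr (orderOf_dvd_of_pow_eq_one (Units.ext h))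
    · exact .inl (by rw [show a = 1 from h, map_one])

open H14.Sz in
theorem sz (H : C.Hy p) (hR : C.NR) (e : Lie.IsoSuzuki G) : False := by
  obtain ⟨F, _, _, m, hm, hF, ⟨e⟩⟩ := e
  haveI : SzF F m := ⟨hm, hF⟩
  let f : F → F → G := fun a b => (e.trans (lieEquiv F m).symm).symm (uE a b)
  have mu : ∀ a b c d, f a b * f c d = f (a + c) (b + d + th F a * c) := fun a b c d => by
    rw [← map_mul]
    exact congrArg _ (mat0_injective (by rw [map_mul, mat0_uE, mat0_uE, mat0_uE, uM_mul]))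
  let φ : Multiplicative F →* G := MonoidHom.mk' (fun b => f 0 b.toAdd) fun a b => by simp [mu]
  have φi : Function.Injective φ := fun a b h => by
    have := congrArg mat0 ((MulEquiv.injective _) h)
    rw [mat0_uE, mat0_uE] at this
    simpa [uM] using congrFun (congrFun this 1) 3
  haveI : Fact (Nat.Prime 2) := ⟨by decide⟩
  obtain ⟨A, hA⟩ := Sylow.exists_subgroup_card_pow_prime (G := Multiplicative F) 2 (n := 3) (by
    rw [Nat.card_eq_fintype_card, Fintype.card_multiplicative, hF]; exact pow_dvd_pow _ (by omega))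
  have h2 := two_eq_zero' (F := F)
  refine no_sq8 H hR (E := A.map φ) ?_ (by rw [card_map_of_injective φi, hA]; rfl) ?_
  · rintro _ ⟨a, -, rfl⟩
    rw [← map_pow, show a ^ 2 = 1 from sq a ▸ (by linear_combination a.toAdd * h2 : a.toAdd + a.toAdd = 0), map_one]
  · rintro _ ⟨a, -, rfl⟩
    obtain ⟨x, hx⟩ := th_mul_self_surjective a.toAdd
    refine ⟨f x 0, ?_, ?_⟩
    · rw [mu, hx, ← two_mul, h2, zero_mul, zero_add, zero_add]; rfl
    · rintro _ ⟨b, -, rfl⟩
      change f x 0 * f 0 _ = f 0 _ * f x 0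
      simp [mu]

open H96.Geo H96.Geo.M11 in
theorem m11 (H : C.Hy p) (hG : IsM11 G) : False := by
  haveI := H.fin
  haveI := H.char
  obtain ⟨e⟩ := Cfsg.Agent.S0420.result hG _ H15.squareDodecad_mem _ H15.zero_mem_squareDodecad
  replace e : G ≃* Spor.M11 := e.trans
    { toFun := fun x => ⟨x.1.1, ⟨x.1.2, x.2.1⟩, x.2.2⟩
      invFun := fun x => ⟨⟨x.1, x.2.1.1⟩, x.2.1.2, x.2.2⟩
      left_inv := fun _ => rfl
      right_inv := fun _ => rfl
      map_mul' := fun _ _ => rfl }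
  let R : ℕ → G → Prop := fun c a => ∃ k ∈ Spor.M11, k * H15.permOf c * k⁻¹ = (e a).1
  have cj : ∀ c a b, R c a → R c b → IsConj a b := fun c a b ⟨k, hk, ha⟩ ⟨l, hl, hb⟩ =>
    isConj_iff.2 ⟨e.symm ⟨l * k⁻¹, mul_mem hl (inv_mem hk)⟩, e.injective (Subtype.ext (by
      simp only [map_mul, map_inv, MulEquiv.apply_symm_apply, coe_mul, coe_inv, ← ha, ← hb]; group))⟩
  have da : ∀ a, ∃ c ∈ cls, orderOf a = c.o ∧ R c.c a := fun a => by
    obtain ⟨c, hc, o, -, h⟩ := table.data (e a).2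
    exact ⟨c, hc, by rwa [orderOf_coe, e.orderOf_eq] at o, h⟩
  have m3 : ∀ a, orderOf a ∣ 9 → a ≠ 1 → orderOf a = 3 ∧ R c3A a := fun a h a1 => by
    obtain ⟨c, hc, o, r⟩ := da a
    rw [Ne, ← orderOf_eq_one_iff, o] at a1
    rw [o] at h ⊢
    simp only [cls, List.mem_cons, List.not_mem_nil, or_false] at hc
    rcases hc with rfl | rfl | rfl | rfl | rfl | rfl | rfl | rfl | rfl | rfl <;>
      first | exact ⟨rfl, r⟩ | exact absurd rfl a1 | exact absurd h (by decide)
  have m11 : ∀ a, orderOf a = 11 → R c11A a ∨ R c11B a := fun a h => by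
    obtain ⟨c, hc, o, r⟩ := da a
    rw [o] at h
    simp only [cls, List.mem_cons, List.not_mem_nil, or_false] at hc
    rcases hc with rfl | rfl | rfl | rfl | rfl | rfl | rfl | rfl | rfl | rfl <;>
      first | exact .inl r | exact .inr r | exact absurd h (by decide)
  haveI : Fact (Nat.Prime 3) := ⟨by decide⟩
  haveI : Fact (Nat.Prime 11) := ⟨by norm_num⟩
  obtain ⟨E, hE⟩ := Sylow.exists_subgroup_card_pow_prime (G := G) 3 (n := 2) (by rw [hG.2]; decide)
  have o9 : ∀ a ∈ E, orderOf a ∣ 9 := fun a ha => (orderOf_dvd_natCard E ha).trans (by rw [hE]; rfl)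
  obtain rfl := H.e9 hE (fun a ha => by
    by_cases a1 : a = 1
    · rw [a1, one_pow]
    · rw [← (m3 a (o9 a ha) a1).1, pow_orderOf_eq_one]) fun a ha c hc a1 c1 =>
    cj _ _ _ (m3 a (o9 a ha) a1).2 (m3 c (o9 c hc) c1).2
  have key : ∀ y : G, orderOf y = 11 → ¬ IsConj y (y ^ 3) := fun y o h => by
    obtain ⟨g, hg⟩ := isConj_iff.1 h
    exact no11 H (by rw [Ne, CharP.cast_eq_zero_iff k 3]; decide) (fun e => by simp [e] at o)
      (o ▸ pow_orderOf_eq_one y) hg
  obtain ⟨x, ox⟩ := exists_prime_orderOf_dvd_card' (G := G) 11 (by rw [hG.2]; decide)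
  have o3 : ∀ y : G, orderOf y = 11 → orderOf (y ^ 3) = 11 := fun y o =>
    (Nat.Coprime.orderOf_pow (by rw [o]; decide)).trans o
  have k2 : ¬ IsConj x ((x ^ 3) ^ 3) := fun h => key x ox (by
    have := h.trans ((h.pow 9).trans (h.pow 81 |> fun t => by simpa only [← pow_mul] using t) |> fun t => by
      simpa only [← pow_mul] using t)
    rwa [← pow_mod_orderOf, ox] at this)
  rcases m11 x ox with a | a <;> rcases m11 _ (o3 x ox) with b | b <;> rcases m11 _ (o3 _ (o3 x ox)) with c | c <;>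
    first | exact key _ ox (cj _ _ _ a b) | exact key _ (o3 x ox) (cj _ _ _ b c) | exact k2 (cj _ _ _ a c)

end H28.R4.N0x
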