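import Mathlib
import Cfsg.Agent.Base
import Cfsg.Agent.Lib.R4.Frame
import Cfsg.Agent.Lib.R4.E9
import Cfsg.Agent.Lib.R4.N0bB
import Cfsg.Agent.Lib.InvChar.U3Even

/-! RES4 package N0b: six families of simple groups have no complex (helper80) -/

set_option autoImplicit false
set_option linter.unusedSectionVars false
set_option linter.style.haveILetI false

namespace H28.R4

open Matrix Subgroup Cfsg
open scoped MatrixGroups

variable {G k ι : Type*} [Group G] [Field k] [Fintype ι] [DecidableEq ι] {C : Cx G k ι} {p : ℕ}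
  {γ : Fin 6 → Fin 6 → Matrix ι ι k} {b : Fin 6 → Fin 6 → G}

theorem N0x.heis' (H : C.Hy p) {A M : Type*} [Group A] [Monoid M] (f : A →* G) (ψ : A →* M)
    (hψ : Function.Injective ψ) (x y z g : A) {X Y Z T : M} (hx : ψ x = X) (hy : ψ y = Y) (hz : ψ z = Z)
    (hg : ψ g = T) (z1 : f z ≠ 1) (h : X * X * X = 1 ∧ Y * Y * Y = 1 ∧ Z * Z * Z = 1 ∧ X * Y = Z * (Y * X) ∧
      Z * X = X * Z ∧ Z * Y = Y * Z ∧ Z * T * Z = T) : False := by
  subst hx hy hz hg
  simp only [← map_mul, ← map_one ψ, hψ.eq_iff] at h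
  obtain ⟨h1, h2, h3, h4, h5, h6, h7⟩ := h
  refine N0x.heis H (x := f x) (y := f y) (z := f z) (g := f g) ?_ ?_ ?_ z1 ?_ ?_ ?_ ?_ <;>
    simp only [pow_three', ← map_mul, map_one, h1, h2, h3, h5, h6, h7]
  rw [h4]

theorem Cx.Hy.n0_l2 (H : C.Hy p) (hR : C.NR)
    {K : Type} [Field K] [Fintype K] (h2 : (2 : K) = 0) (h4 : 4 < Fintype.card K) (e : G ≃* PSL(2, K)) :
    False := N0x.l2 H hR h2 h4 e

theorem Cx.Hy.n0_sz (H : C.Hy p) (hR : C.NR) (e : Lie.IsoSuzuki G) : False := N0x.sz H hR e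

open H11.U H72 in
theorem Cx.Hy.n0_u3 (H : C.Hy p) (hR : C.NR) {K : Type} [Field K] [Fintype K] {n : ℕ} (hn : 2 ≤ n)
    (hK : Fintype.card K = (2 ^ n) ^ 2) (e : G ≃* PSU 3 K (2 ^ n)) : False := by
  classical
  have h4 : 2 ^ 2 ≤ 2 ^ n := Nat.pow_le_pow_right (by decide) hn
  haveI : CharP K 2 := H14.Sz.charP_two_of_card (n := n * 2 - 1) (by
    rw [hK, ← pow_mul, Nat.sub_add_cancel (by omega)])
  generalize 2 ^ n = q at *
  haveI : IsSq K q := ⟨hK⟩
  have h2 : (2 : K) = 0 := CharTwo.two_eq_zero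
  obtain ⟨a, a1, a3⟩ : ∃ a : K, a * H11.U.cj q a = 1 ∧ a ^ 3 ≠ 1 := by
    by_contra! h
    have := (Set.ncard_le_ncard (s := {x : K | x * H11.U.cj q x = 1}) (t := (Polynomial.nthRoots 3 (1 : K)).toFinset)
      fun x hx => by simpa using h x hx).trans_eq (Set.ncard_coe_finset _)
    have h1 := (Multiset.toFinset_card_le _).trans (Polynomial.card_nthRoots 3 (1 : K))
    have h3 : {x : K | x * H11.U.cj q x = 1}.ncard = q + 1 := card_norm_eq one_ne_zero (map_one _)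
    omega
  let φ : UQ K q →* G := e.symm.toMonoidHom.comp (UQ.toPSU K q)
  have φi : Function.Injective φ := e.symm.injective.comp UQ.toPSU_injective
  let d := toSU (q := q) !![a, 0, 0; 0, a, 0; 0, 0, H11.U.cj q a ^ 2]
    (by rw [isIso_iff]; ext i j; fin_cases i <;> fin_cases j <;> simp [mul_apply, Fin.sum_univ_three, H11.U.cj_cj] <;> grind)
    (by simp [det_fin_three]; grind)
  let α : UQ K q → UQ K q := fun t => ⟨H11.U.cj q a ^ 3 * t.X, t.Y, by
    have := t.h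
    simp only [map_mul, map_pow, H11.U.cj_cj]; grind⟩
  obtain ⟨D, hD⟩ : ∃ D, ∀ t, D * φ t = φ (α t) * D := ⟨e.symm (QuotientGroup.mk' _ d), fun t => by
    refine (map_mul _ _ _).symm.trans ((congrArg e.symm ?_).trans (map_mul _ _ _))
    refine (map_mul _ _ _).symm.trans ((congrArg (QuotientGroup.mk' _) ?_).trans (map_mul _ _ _))
    refine Subtype.ext (Subtype.ext (show !![a, 0, 0; 0, a, 0; 0, 0, H11.U.cj q a ^ 2] * t.mat =
      (α t).mat * !![a, 0, 0; 0, a, 0; 0, 0, H11.U.cj q a ^ 2] from ?_))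
    simp [UQ.mat, α, H11.U.cj_cj]
    grind⟩
  clear_value φ
  have o2 : ∀ z : UQ K q, z.X = 0 → z.Y ≠ 0 → orderOf (φ z) = 2 := fun z h1 h2 => by
    rw [orderOf_injective φ φi]
    exact orderOf_eq_prime (sq z ▸ UQ.mul_self_eq_one_iff.2 h1) fun e => h2 (by simp [e])
  have cD : ∀ z : UQ K q, z.X = 0 → D * φ z = φ z * D := fun z h => by
    rw [hD, show α z = z from UQ.ext (by simp [α, h]) rfl]
  have cs : ∀ z s : UQ K q, z.X = 0 → φ s * φ z = φ z * φ s := fun z s h => by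
    rw [← map_mul, ← map_mul, UQ.comm_of_X h]
  obtain ⟨y, hy⟩ := exists_trace_eq (q := q) (map_one (H11.U.cj q : K →+* K))
  obtain ⟨t, t1, t2, t3⟩ := exists_fixed_ne (q := q) (by omega) (1 : K)
  let s : UQ K q := ⟨1, y, by simpa using hy⟩
  let u : UQ K q := ⟨0, t, by rw [t1, zero_mul, CharTwo.add_self_eq_zero]⟩
  have c2 : ∀ z : UQ K q, z.X = 0 → φ s * D * φ z = φ z * (φ s * D) := fun z h => by
    rw [mul_assoc, cD z h, ← mul_assoc, cs z s h, mul_assoc]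
  have := N0x.sq_comm H hR (u := φ u) (w := φ (s * s)) (s := φ s) (x := D) (y := φ s * D) (o2 u rfl t2)
    (o2 _ s.sq_X (by rw [s.sq_Y]; simp [s])) (map_mul φ u _ ▸ o2 (u * (s * s)) (by rw [UQ.mul_X, s.sq_X, add_zero])
      (by rw [UQ.mul_Y, s.sq_Y]; simp [s, u]; grind)) (map_mul _ _ _).symm (cs u s rfl) (cD u rfl) (cD _ s.sq_X)
    (c2 u rfl) (c2 _ s.sq_X)
  rw [show φ s * D * (φ s * D) = φ (s * α s) * (D * D) by
    rw [map_mul, mul_assoc, mul_assoc, ← mul_assoc D, hD, mul_assoc], ← mul_assoc, mul_left_inj, mul_assoc, hD,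
    ← mul_assoc, hD, mul_assoc, mul_left_inj] at this
  have := congrArg UQ.X (φi this)
  simp only [α, s, UQ.mul_X] at this
  exact a3 (pow_eq_zero_iff three_ne_zero |>.1 (show (a ^ 3 - 1) ^ 3 = 0 by grind) |> sub_eq_zero.1)

theorem Cx.Hy.n0_l33 (H : C.Hy p) {K : Type} [Field K] [Fintype K] (hK : Fintype.card K = 3)
    (e : G ≃* PSL(3, K)) : False := by
  have h3 : (3 : K) = 0 := by simpa [hK] using FiniteField.cast_card_eq_zero K
  refine N0x.heis' H (e.symm.toMonoidHom.comp (QuotientGroup.mk' _)) Matrix.SpecialLinearGroup.coeMonoidHom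
    Subtype.val_injective ⟨!![1, 1, 0; 0, 1, 0; 0, 0, 1], by simp [det_fin_three]⟩
    ⟨!![1, 0, 0; 0, 1, 1; 0, 0, 1], by simp [det_fin_three]⟩ ⟨!![1, 0, 1; 0, 1, 0; 0, 0, 1], by simp [det_fin_three]⟩
    ⟨!![-1, 0, 0; 0, -1, 0; 0, 0, 1], by simp [det_fin_three]⟩ (X := !![1, 1, 0; 0, 1, 0; 0, 0, 1])
    (Y := !![1, 0, 0; 0, 1, 1; 0, 0, 1]) (Z := !![1, 0, 1; 0, 1, 0; 0, 0, 1]) (T := !![-1, 0, 0; 0, -1, 0; 0, 0, 1])
    rfl rfl rfl rfl (fun h => ?_) ?_
  · obtain ⟨r, -, h⟩ := Matrix.SpecialLinearGroup.mem_center_iff.1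
      ((QuotientGroup.eq_one_iff _).1 (e.symm.map_eq_one_iff.1 h))
    simpa using congrFun (congrFun h 0) 2
  · simp [one_fin_three]
    grind

open H11.U in
theorem Cx.Hy.n0_u33 (H : C.Hy p) {K : Type} [Field K] [Fintype K] (hK : Fintype.card K = 3 ^ 2)
    (e : G ≃* PSU 3 K 3) : False := by
  haveI : IsSq K 3 := ⟨hK⟩
  have h3 : (3 : K) = 0 := by
    have := FiniteField.cast_card_eq_zero K
    rw [hK, Nat.cast_pow] at this
    exact pow_eq_zero_iff two_ne_zero |>.1 this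
  obtain ⟨i, i0, ic⟩ := exists_trace_zero K 3
  have i2 : i * i = -1 := mul_left_cancel₀ i0 (by rw [H11.U.cj_apply] at ic; linear_combination ic)
  have m : ∀ A : Matrix (Fin 3) (Fin 3) K, Aᵀ * A.map (H11.U.cj 3) = 1 ∧ A.det = 1 → ∃ x : SU 3 K 3, x.1.1 = A :=
    fun A h => ⟨toSU A (isIso_iff.2 h.1) h.2, rfl⟩
  obtain ⟨x, hx⟩ := m !![0, 1, 0; 0, 0, 1; 1, 0, 0] ⟨by
    ext a b; fin_cases a <;> fin_cases b <;> simp [mul_apply, Fin.sum_univ_three], by simp [det_fin_three]⟩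
  obtain ⟨y, hy⟩ := m !![-i, -1, i - 1; -1, i, -i - 1; i - 1, -i - 1, 0] ⟨by
    ext a b; fin_cases a <;> fin_cases b <;> simp [mul_apply, Fin.sum_univ_three, ic] <;> grind,
    by simp [det_fin_three]; grind⟩
  obtain ⟨z, hz⟩ := m !![1 - i, -i, -i; -i, 1 - i, -i; -i, -i, 1 - i] ⟨by
    ext a b; fin_cases a <;> fin_cases b <;> simp [mul_apply, Fin.sum_univ_three, ic] <;> grind,
    by simp [det_fin_three]; grind⟩
  obtain ⟨g, hg⟩ := m !![0, 1 + i, 1 + i; -1 - i, i, -i; -1 - i, -i, i] ⟨by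
    ext a b; fin_cases a <;> fin_cases b <;> simp [mul_apply, Fin.sum_univ_three, ic] <;> grind,
    by simp [det_fin_three]; grind⟩
  refine N0x.heis' H (e.symm.toMonoidHom.comp (QuotientGroup.mk' _))
    (Matrix.SpecialLinearGroup.coeMonoidHom.comp (SU 3 K 3).subtype)
    (Subtype.val_injective.comp Subtype.val_injective) x y z g hx hy hz hg (fun h => ?_) ?_
  · obtain ⟨c, h⟩ := (mem_center_SU_iff (by norm_num)).1
      ((QuotientGroup.eq_one_iff _).1 (e.symm.map_eq_one_iff.1 h))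
    rw [hz] at h
    exact i0 (by simpa using congrFun (congrFun h 0) 2)
  · simp only [one_fin_three, mul_fin_three, EmbeddingLike.apply_eq_iff_eq, vecCons_inj, and_true]
    refine ⟨?_, ?_, ?_, ?_, ?_, ?_, ?_⟩ <;> refine ⟨⟨?_, ?_, ?_⟩, ⟨?_, ?_, ?_⟩, ?_, ?_, ?_⟩ <;> grind

theorem Cx.Hy.n0_m11 (H : C.Hy p) (e : IsM11 G) : False := N0x.m11 H e

end H28.R4
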