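import Cfsg.Agent.Lib.R4.Frame
import Cfsg.Agent.Lib.R4.CA
import Cfsg.Agent.Lib.R4.U42

/-! The case of a frame with automiser `A₅` fixing a point. -/

set_option autoImplicit false

namespace H28.R4

open Matrix Subgroup Cfsg CAx
open scoped MatrixGroups

variable {G k ι : Type*} [Group G] [Field k] [Fintype ι] [DecidableEq ι] {C : Cx G k ι} {p : ℕ}
  {γ : Fin 6 → Fin 6 → Matrix ι ι k} {b : Fin 6 → Fin 6 → G}

local notation "𝐓" => γ 0 1 * γ 2 3
local notation "𝐗" => (-(2 : k)⁻¹) • (1 + γ 0 1 + γ 1 2 + γ 2 0)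

theorem CAx.det_X (h : C.FG γ b) (h2 : (2 : k) ≠ 0) : (𝐗).det = 1 := by
  obtain ⟨t1, t2⟩ := h.dbl h2 (show [0, 1, 3, 4].Nodup by decide)
  generalize γ 0 3 - γ 0 4 - γ 1 3 + γ 1 4 = M at t1 t2
  have d0 : M.det ≠ 0 := fun e => by
    have := congrArg det t1
    rw [det_mul, e, mul_zero, C.det_smul', det_one, mul_one] at this
    exact pow_ne_zero 4 (neg_ne_zero.2 (Fx.four_ne h2)) this.symm
  have e : M * (𝐗) = (𝐗) * (𝐗) * M := by
    rw [X_sq h h2, mul_smul_comm, mul_add, mul_add, mul_add, t2, t2, t2,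
      (Commute.one_right M).eq, ← add_mul, ← add_mul, ← add_mul, ← smul_mul_assoc]
    congr 1
    show (-(2 : k)⁻¹) • (1 + γ 1 0 + γ 0 2 + γ 2 1) = _
    rw [h.anti 0 1 (by decide), h.anti 2 0 (by decide), h.anti 1 2 (by decide)]
    match_scalars <;> field_simp <;> ring
  have e1 := congrArg det e
  have e2 := congrArg det (X_cube h h2)
  rw [det_mul, det_mul, det_mul] at e1
  rw [det_mul, det_mul, det_one] at e2
  have x0 : (𝐗).det ≠ 0 := fun z => by rw [z, mul_zero] at e2; exact zero_ne_one e2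
  exact mul_left_cancel₀ (mul_ne_zero d0 x0) (by linear_combination -e1)

/-- **(N1a)**, automiser `A₅` fixing a point -/
theorem Cx.Hy.n1a5 (H : C.Hy p) (hR : C.NR) (hS : Cx.SolC G) (h : C.FG γ b)
    (hB : ∀ σ, σ ∈ Cx.fB b ↔ Equiv.Perm.sign σ = 1 ∧ σ 5 = 5) :
    (∃ (K : Type) (_ : Field K) (_ : Fintype K), Fintype.card K = 4 ∧ Nonempty (G ≃* PSU 4 K 2)) ∧
      C.Pat3 p := by
  have h2 := H.two
  obtain ⟨r, μ, m2, h3, hr, -⟩ := H.ca5 hS h hB
  change C.L r (Am (𝐓) (𝐗) μ) at hr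
  have hT := (biT h h2).1
  have m3 : μ ^ 3 = 1 := by linear_combination (μ - 1) * m2
  refine H.u42 hR hS h hB (Or.inl rfl) (C.smul hr (inv_ne_zero h2)) ?_ ?_ ?_ fun e => ?_
  · exact (((Commute.one_left _).sub_left (Commute.refl _)).add_left (((cX h).mul_left
      ((Commute.one_left _).add_left (Commute.refl _))).smul_left _)).smul_left _
  · rw [smul_mul_assoc, Am_q hT, smul_smul, inv_mul_cancel₀ h2, one_smul]
  · rw [_root_.smul_pow, pow_three' (Am _ _ _), Ph.cube H h, m3, Am_one, sub_self, zero_smul, add_zero, smul_smul,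
      smul_smul, ← one_smul k (1 : Matrix ι ι k), smul_smul]
    congr 1
    field_simp; norm_num
  · have c1 := cX' H h (i := 3) (j := 4) (by decide) (by decide) (by decide)
    have f1 := (anT h).flip
    have f2 : γ 3 4 * (1 + 𝐓) = (1 - 𝐓) * γ 3 4 := by
      rw [mul_add, anT h, sub_mul, mul_one, one_mul, sub_eq_add_neg]
    have e1 : γ 3 4 * Am (𝐓) (𝐗) μ = ((1 + 𝐓) + μ • ((𝐗) * (1 - 𝐓))) * γ 3 4 := by
      rw [Am, mul_add, f1, mul_smul_comm, ← mul_assoc, c1.eq, mul_assoc _ (γ 3 4), f2, add_mul (1 + 𝐓),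
        smul_mul_assoc μ, mul_assoc]
    have e2 : Am (𝐓) (𝐗) μ * ((1 + 𝐓) + μ • ((𝐗) * (1 - 𝐓))) = (4 * μ) • (𝐗) := by
      have k := ((Commute.one_right _).sub_right (cX h)).eq
      generalize (𝐗) = X at k ⊢
      rw [mul_add, Am_p hT, mul_smul_comm, k, ← mul_assoc, Am_q hT, smul_mul_assoc, ← k, mul_add,
        mul_sub, mul_one]
      module
    have e3 := congrArg det e1
    have e4 := congrArg det e2
    rw [det_mul, det_mul, mul_comm] at e3
    rw [det_mul, ← mul_right_cancel₀ (Cx.det_ne (h.lift 3 4)) e3, C.det_smul', det_X h h2] at e4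
    rw [C.det_smul'] at e
    have e5 : (Am (𝐓) (𝐗) μ).det = 16 := by
      linear_combination 16 * e + (Am (𝐓) (𝐗) μ).det * (1 + 2 * 2⁻¹) * (1 + (2 * 2⁻¹) ^ 2) *
        (mul_inv_cancel₀ h2).symm
    rw [e5] at e4
    have e6 : μ = 1 := by
      have : (2 : k) ^ 8 * (μ - 1) = 0 := by linear_combination -e4 - 256 * μ * m3
      exact sub_eq_zero.1 ((mul_eq_zero.1 this).resolve_left (pow_ne_zero 8 h2))
    exact h3 (by rw [e6] at m2; linear_combination m2)

end H28.R4
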