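import Mathlib
import Cfsg.Agent.Base
import Cfsg.Agent.Lib.R4.N1bB
import Cfsg.Agent.Lib.R4.N1bU
import Cfsg.Agent.Lib.R4.E9
import Cfsg.Agent.Lib.E32.Main
import Cfsg.Agent.Lib.AutCl.L34

set_option autoImplicit false
set_option linter.unusedVariables false

namespace H28.R4

open Matrix Subgroup Cfsg
open scoped MatrixGroups

variable {G k ι : Type*} [Group G] [Field k] [Fintype ι] [DecidableEq ι] {C : Cx G k ι} {p : ℕ}
  {γ : Fin 6 → Fin 6 → Matrix ι ι k} {b : Fin 6 → Fin 6 → G}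

namespace Nb

open H55.Two H69

theorem syl [Finite G] {A B : Subgroup G} (te : TE A B) (cA : Nat.card A = 16) (cB : Nat.card B = 16)
    (cZ : Nat.card (A ⊓ B : Subgroup G) = 4) (cN : Nat.card (normalizer (A : Set G)) = 960)
    (ns : ∀ g : G, (∀ a ∈ A, g * a * g⁻¹ ∈ B) → (∀ a ∈ B, g * a * g⁻¹ ∈ A) → g * g ∈ A ⊔ B → False) :
    IsSylowIn 2 (A ⊔ B) ⊤ := by
  have : Fact (Nat.Prime 2) := ⟨Nat.prime_two⟩
  have c64 : Nat.card (A ⊔ B : Subgroup G) = 64 := by
    have e1 := te.idx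
    have e2 := (A.subgroupOf (A ⊔ B)).card_mul_index
    rw [H69.card_subgroupOf le_sup_left, cA] at e2
    rw [cZ, cB, relIndex] at e1
    omega
  have s1 : IsSylowIn 2 (A ⊔ B) (normalizer (A : Set G)) := isSylowIn_of_not_dvd_relIndex te.pS te.normA (by
    have e2 := ((A ⊔ B).subgroupOf (normalizer (A : Set G))).card_mul_index
    rw [H69.card_subgroupOf te.normA, c64, cN] at e2
    rw [relIndex]
    omega)
  refine isSylowIn_of_normalizer le_top ⟨le_inf le_top le_normalizer, te.pS, fun R h1 h2 hR => ?_⟩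
  have e : R ⊓ normalizer (A : Set G) = A ⊔ B :=
    s1.max _ (le_inf h1 te.normA) inf_le_right (hR.to_le inf_le_left)
  refine le_antisymm (fun g hg => ?_) h1
  have sq : ∀ {E : Subgroup G}, (∀ a ∈ E, a * a = 1) → ∀ a ∈ E ^ᶜ g, a * a = 1 := fun hE a ha => by
    obtain ⟨x, hx, rfl⟩ := mem_cj'.1 ha
    rw [show g * x * g⁻¹ * (g * x * g⁻¹) = g * (x * x) * g⁻¹ by group, hE x hx]
    group
  rcases te.le_or (cj_le_of_mem_normalizer le_sup_left (h2 hg).2) (sq te.sqA) with c | c
  · exact e ▸ ⟨hg, mem_normalizer_of_cj_le c⟩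
  have c1 : A ^ᶜ g = B := eq_of_le_of_card_ge c (by rw [card_cj, cA, cB])
  rcases te.le_or (cj_le_of_mem_normalizer le_sup_right (h2 hg).2) (sq te.sqB) with d | d
  · refine (ns g (fun a ha => c (cj_mem g ha)) (fun a ha => d (cj_mem g ha)) ?_).elim
    exact e ▸ ⟨mul_mem hg hg, mem_normalizer_of_cj_le (by rw [← cj_cj, c1]; exact d)⟩
  · exact (te.ne (cj_inj.1 (c1.trans (cj_eq_of_cj_le d).symm))).elim

theorem star_sec [CharP k 3] {s : Matrix ι ι k →+ Matrix ι ι k} (hs : Star s) (e : ∀ i j, s (γ i j) = γ j i)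
    (i j : Fin 6) : s (sec γ i j) = sec γ j i := by
  have h3 : (3 : k) = 0 := by simpa using CharP.cast_eq_zero k 3
  have f3 : ∀ i a, fv k i a ^ 3 = fv k i a := fun i a => by
    fin_cases i <;> fin_cases a <;> simp [fv] <;> norm_num
  have : (2 : k) ^ 3 = 2 := by linear_combination 2 * h3
  rw [sec, sec, hs.smul, inv_pow, this, gm, gm, map_sum, Finset.sum_comm]
  refine congrArg _ (Finset.sum_congr rfl fun a _ => ?_)
  rw [map_sum]
  exact Finset.sum_congr rfl fun c _ => by rw [hs.smul, e, mul_pow, f3, f3, mul_comm]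

theorem top_of [Finite G] [IsSimpleGroup G] (cG : Nat.card G = 20160) {N M : Subgroup G} (cN : Nat.card N = 960)
    (h : N < M) : M = ⊤ := by
  by_contra hM
  have h1 : Nat.card G ∣ M.index.factorial := by
    rw [Subgroup.index, ← Nat.card_perm]
    refine card_dvd_of_injective (MulAction.toPermHom G (G ⧸ M)) ?_
    rw [← MonoidHom.ker_eq_bot_iff, ← normalCore_eq_ker]
    exact (IsSimpleGroup.eq_bot_or_eq_top_of_normal M.normalCore inferInstance).resolve_right
      fun e => hM (top_le_iff.1 (e ▸ M.normalCore_le))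
  have h2 := N.card_mul_index
  have h3 := relIndex_mul_index h.le
  have h4 : N.relIndex M ≠ 1 := fun e => h.not_ge (relIndex_eq_one.1 e)
  rw [cG, cN] at h2
  have h5 : N.index = 21 := by omega
  rw [h5] at h3
  have h6 : M.index ≤ 7 := by
    have : M.index ∣ 21 := Dvd.intro_left _ h3
    have := Nat.le_of_dvd (by norm_num) this
    generalize M.index = m at *
    generalize N.relIndex M = r at *
    interval_cases m <;> omega
  have := Nat.le_of_dvd (Nat.factorial_pos _) h1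
  have := Nat.factorial_le h6
  rw [cG] at *
  simp only [Nat.factorial] at this
  omega

theorem three (H : C.Hy p) (e : G ≃* H67.L34.G) : p = 3 := by
  obtain ⟨f, hf⟩ := H67.L34.exists_f H67.L34.D3 H67.L34.C3 H67.L34.DC
  have f_conj : ∀ x, x ≠ 1 → IsConj (f x) (H67.L34.D : H67.L34.G) := fun x hx => by
    obtain ⟨a, b, hab, h⟩ := hf x hx
    rw [h]; exact H67.L34.conj_D a b hab
  have f_inj : Function.Injective f := by
    rw [injective_iff_map_eq_one]
    intro x hx
    by_contra hne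
    have := f_conj x hne
    rw [hx, isConj_one_right] at this
    exact H67.L34.D_ne this
  have g_inj : Function.Injective (e.symm.toMonoidHom.comp f) := e.symm.injective.comp f_inj
  refine H.e9 (E := (e.symm.toMonoidHom.comp f).range) ?_ ?_ ?_
  · rw [← Nat.card_congr (MonoidHom.ofInjective g_inj).toEquiv]; simp
  · rintro _ ⟨x, rfl⟩
    rw [← map_pow, show x ^ 3 = 1 by revert x; decide, map_one]
  · rintro _ ⟨x, rfl⟩ _ ⟨y, rfl⟩ hx hy
    exact e.symm.toMonoidHom.map_isConj ((f_conj x fun c => hx (by rw [c, map_one])).trans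
      (f_conj y fun c => hy (by rw [c, map_one])).symm)

end Nb

open Nb H55.Two H69 in
/-- **(N1b)**, transitive automiser `A₅` -/
theorem Cx.Hy.n1b (H : C.Hy p) (hR : C.NR) (h : C.FG γ b) (h60 : Nat.card (Cx.fB b) = 60)
    (h1 : Equiv.swap 0 1 * Equiv.swap 2 3 ∈ Cx.fB b) (h2 : Equiv.swap 0 1 * Equiv.swap 4 5 ∈ Cx.fB b)
    (h3 : Equiv.swap 0 4 * Equiv.swap 0 2 * (Equiv.swap 1 5 * Equiv.swap 1 3) ∈ Cx.fB b)
    (h4 : ∀ σ ∈ Cx.fB b, Equiv.Perm.sign σ = 1) :
    (∃ (K : Type) (_ : Field K) (_ : Fintype K), Fintype.card K = 4 ∧ Nonempty (G ≃* PSL(3, K))) ∧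
      p = 3 ∧ C.Uni 3 := by
  have := H.fin
  have := H.simple
  have k2 := H.two
  obtain ⟨b', h', ind⟩ := second h k2 h1 h2
  have T := te h h' k2 ind
  have cN : Nat.card (normalizer (Cx.fA b : Set G)) = 960 := by rw [h.card_norm k2, h60]
  have S := syl T (h.card_fA k2) (h'.card_fA k2) (card_inter h h' k2 ind) cN
    fun g a c d => no_swap' h h' k2 ind H hR a c d
  have L : L34 (Cx.fA b) (Cx.fA b') := ⟨T, S, h.card_fA k2, h'.card_fA k2, card_inter h h' k2 ind⟩
  have nn : ∀ {A B : Subgroup G}, TE A B → ¬ A.Normal := fun {A B} t hA => by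
    rcases IsSimpleGroup.eq_bot_or_eq_top_of_normal A hA with e | e
    · exact t.neA (e ▸ bot_le)
    · exact t.neB (e ▸ le_top)
  have hO : pPrimeCore 2 G = ⊥ := eq_bot_iff.2 (sSup_le fun N hN => by
    rcases IsSimpleGroup.eq_bot_or_eq_top_of_normal N hN.1 with e | e
    · exact e.le
    · have h1 := hN.2
      have h2 := card_dvd_of_le (le_top : Cx.fA b ≤ ⊤)
      rw [h.card_fA k2, ← e] at h2
      exact absurd (Nat.Coprime.coprime_dvd_left h2 h1) (by norm_num))
  have c4 : Fintype.card H30.F4 = 4 := by rw [← Nat.card_eq_fintype_card, H30.F4.natCard_eq]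
  obtain ⟨f⟩ := ((H40.E32.l34 c4 hO L).resolve_left (nn T)).resolve_left (nn T.symm)
  have hX : Res2 G = ⊤ := (IsSimpleGroup.eq_bot_or_eq_top_of_normal (Res2 G) inferInstance).resolve_left
    fun e => T.neA (le_sup_left.trans ((le_Res2 T.pS).trans (e.le.trans bot_le)))
  have e : G ≃* H67.L34.G := (topEquiv.symm.trans (MulEquiv.subgroupCongr hX.symm)).trans f
  obtain rfl := three H e
  refine ⟨⟨H30.F4, inferInstance, inferInstance, c4, ⟨e⟩⟩, rfl, ?_⟩
  have := H.char
  obtain ⟨s, hs, es⟩ := exists_star h.toFr C.card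
  refine uni_of hs (top_of ((Nat.card_congr e.toEquiv).trans H67.L34.card_G) cN
    (lt_of_le_of_ne (norm_le_Un hs h k2 es) fun c => nn T (L.normal hO ?_)))
  have le := c ▸ norm_le_Un hs h' k2 (star_sec hs es)
  exact T.symm.scB (sup_comm (Cx.fA b) _ ▸ S) (inf_le_right.trans (le_normalizer_inf le_rfl le))

end H28.R4
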