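import Mathlib
import Cfsg.Agent.Base
import Cfsg.Agent.Lib.R4.N2aK
import Cfsg.Agent.Lib.R4.Frame
import Cfsg.Agent.Lib.Perm29.AutAlt
import Cfsg.Agent.Lib.LocStruct.SylowIn
import Cfsg.Agent.S0215

/-!
# The structure of a non-solvable involution centraliser
-/

set_option autoImplicit false
set_option linter.unusedSectionVars false
set_option linter.style.haveILetI false

namespace H28.R4.N2y

open Matrix Subgroup Cfsg H69 Equiv
open scoped MatrixGroups commutatorElement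

variable {G k ι : Type*} [Group G] [Field k] [Fintype ι] [DecidableEq ι] {C : Cx G k ι} {p : ℕ}
  {g s t u w x y z : G} {M S T W : Matrix ι ι k} {P X Y : Subgroup G}

local notation "𝐂[" a "]" => Subgroup.centralizer ({a} : Set G)

/-! ### group theoretic tools -/

theorem grow [Finite G] (hP : IsPGroup 2 P) : IsSylowIn 2 P ⊤ ∨ ∃ g ∈ 𝐍(P), g ∉ P ∧ g * g ∈ P := by
  obtain ⟨S, hS, l⟩ := exists_isSylowIn_le hP le_top
  rcases l.eq_or_lt with rfl | l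
  · exact Or.inl hS
  obtain ⟨x, hx, x1⟩ := SetLike.exists_of_lt (lt_inf_normalizer_of_lt hS.isP l)
  obtain ⟨n, hn⟩ := hS.isP ⟨x, hx.1⟩
  have h1 : x ^ 2 ^ n ∈ P := by rw [show x ^ 2 ^ n = 1 from congrArg Subtype.val hn]; exact one_mem _
  have h2 := hx.2
  clear hn hx
  induction n generalizing x with
  | zero => exact (x1 (by simpa using h1)).elim
  | succ n ih =>
    by_cases e : x * x ∈ P
    · exact Or.inr ⟨x, h2, x1, e⟩
    · exact ih _ e (by rwa [← pow_two, ← pow_mul, ← pow_succ']) (mul_mem h2 h2)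

theorem not_mem_of_grow [Finite G] (hP : IsSylowIn 2 P X) (hg : g ∈ 𝐍(P)) (h1 : g ∉ P) (h2 : g * g ∈ P) :
    g ∉ X := fun e => h1 (hP.le_of_le_normalizer' (R := zpowers g) (by
      obtain ⟨n, hn⟩ := hP.isP ⟨_, h2⟩
      obtain ⟨m, -, hm⟩ := (Nat.dvd_prime_pow Nat.prime_two).1 (orderOf_dvd_of_pow_eq_one (x := g)
        (n := 2 ^ (n + 1)) (by rw [pow_succ', pow_mul, pow_two]; exact congrArg Subtype.val hn))
      exact IsPGroup.of_card ((Nat.card_zpowers g).trans hm)) (zpowers_le.2 e) (zpowers_le.2 hg) (mem_zpowers g))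

theorem burn [Finite G] (hP : IsSylowIn 2 P ⊤) (hc : P ≤ 𝐂(P)) (hx : x ∈ P) (h : g * x * g⁻¹ ∈ P) :
    ∃ n ∈ 𝐍(P), g * x * g⁻¹ = n * x * n⁻¹ := by
  obtain ⟨P, rfl⟩ := hP.exists_sylow_top
  obtain ⟨n, hn, e⟩ := P.conj_eq_normalizer_conj_of_mem_centralizer x g⁻¹ (hc hx)
    (hc (by simpa using h))
  exact ⟨n⁻¹, inv_mem hn, by simpa using e⟩

theorem zstar [Finite G] [IsSimpleGroup G] (hG : ¬ IsMulCommutative G) (hP : IsSylowIn 2 P 𝐂[t])
    (hc : P ≤ 𝐂(P)) (ht : t ∈ P) (o : orderOf t = 2) (hn : 𝐍(P) ≤ 𝐂[t]) : False := by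
  have h1 : IsSylowIn 2 P ⊤ := (grow hP.isP).resolve_right fun ⟨g, a, b, c⟩ =>
    not_mem_of_grow hP a b c (hn a)
  obtain ⟨Q, rfl⟩ := h1.exists_sylow_top
  obtain ⟨N, hN, odd, h⟩ := Cfsg.Agent.S0215.result Q t o ht fun g e => by
    obtain ⟨n, hn', e⟩ := burn h1 hc ht e
    rw [e, mem_centralizer_singleton_iff.1 (hn hn'), mul_inv_cancel_right]
  rcases hN.eq_bot_or_eq_top with rfl | rfl
  · rcases (inferInstance : (center G).Normal).eq_bot_or_eq_top with e | e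
    · have : t ∈ center G := mem_center_iff.2 fun g => by
        have := mem_bot.1 (h g)
        rw [mul_inv_eq_one, mul_inv_eq_iff_eq_mul] at this
        exact this.symm
      simp [mem_bot.1 (e ▸ this)] at o
    · exact hG ⟨⟨fun a b => mem_center_iff.1 (e ▸ mem_top b) a⟩⟩
  · exact odd.not_two_dvd_nat (card_top (G := G) ▸ o ▸ orderOf_dvd_natCard t)

theorem solv_of_comm (h : ∀ a ∈ X, ∀ b ∈ X, ⁅a, b⁆ ∈ Y) (hY : Group.IsSolvable Y) : Group.IsSolvable X := by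
  have l : _root_.commutator X ≤ Y.comap X.subtype := commutator_le.2 fun a _ b _ => h a a.2 b b.2
  haveI : Group.IsSolvable (_root_.commutator X) := Group.isSolvable_of_isSolvable_injective
    (f := (X.subtype.comp (_root_.commutator X).subtype).codRestrict Y fun a => l a.2)
    fun a b e => Subtype.ext (Subtype.ext (congrArg (fun y : Y => y.1) e))
  exact Group.isSolvable_of_ker_le_range (_root_.commutator X).subtype Abelianization.of (by simp)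

theorem exists_conj (π : X →* alternatingGroup (Fin 5)) (hπ : Function.Surjective π) (hg : g ∈ 𝐍(X))
    (h : ∀ x : X, π x = 1 → π ⟨_, conj_mem_of_mem_normalizer hg x.2⟩ = 1) :
    ∃ σ : Perm (Fin 5), ∀ x : X, (π ⟨_, conj_mem_of_mem_normalizer hg x.2⟩).1 = σ * (π x).1 * σ⁻¹ := by
  let c : X →* X := MonoidHom.mk' (fun x => ⟨_, conj_mem_of_mem_normalizer hg x.2⟩) fun a b =>
    Subtype.ext (by simp [mul_assoc])
  let α := π.liftOfSurjective hπ ⟨π.comp c, fun x hx => h x hx⟩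
  have e : ∀ x, α (π x) = π (c x) := fun x => MonoidHom.liftOfRightInverse_comp_apply ..
  have : Function.Surjective α := fun y => by
    obtain ⟨x, rfl⟩ := hπ y
    exact ⟨π ⟨_, conj_mem_of_mem_normalizer' hg x.2⟩, by rw [e]; exact congrArg π (Subtype.ext (by
      simp [c, mul_assoc]))⟩
  obtain ⟨σ, hσ⟩ := H29.exists_perm_of_aut (by simp) (by simp)
    (MulEquiv.ofBijective α (Finite.surjective_iff_bijective.1 this))
  exact ⟨σ, fun x => by rw [← hσ, MulEquiv.ofBijective_apply, e]; rfl⟩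

theorem cent5 : ∀ σ : Perm (Fin 5), σ * (swap 0 1 * swap 1 2) = (swap 0 1 * swap 1 2) * σ →
    σ * (swap 2 3 * swap 3 4) = (swap 2 3 * swap 3 4) * σ → σ = 1 := by decide +kernel

theorem cent5' {σ : Perm (Fin 5)} (h : ∀ τ : Perm (Fin 5), Perm.sign τ = 1 → σ * τ = τ * σ) : σ = 1 :=
  cent5 σ (h _ (by decide)) (h _ (by decide))

/-! ### lifts -/

theorem swap_chi (hw : C.L w W) (e : W * S = -(S * W)) (hx : x ∈ C.St S) (h : C.chi S ⟨x, hx⟩ = 1) :
    ∃ h1 : w * x * w⁻¹ ∈ C.St (-S), C.chi (-S) ⟨_, h1⟩ = 1 := by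
  obtain ⟨M, hM⟩ := C.ex x
  have l := Cx.conj hw hM
  have e1 : W⁻¹ * S = -(S * W⁻¹) := by
    calc W⁻¹ * S = W⁻¹ * (S * W) * W⁻¹ := by rw [mul_assoc, mul_assoc, Cx.mul_inv hw, mul_one]
      _ = _ := by rw [← neg_neg (S * W), ← e, mul_neg, ← mul_assoc, Cx.inv_mul hw, one_mul, neg_mul]
  have e2 : W⁻¹ * (1 + -S) = (1 + S) * W⁻¹ := by rw [mul_add, add_mul, mul_neg, e1, neg_neg, mul_one, one_mul]
  have e3 : W * (1 + S) = (1 + -S) * W := by rw [mul_add, add_mul, e, neg_mul, mul_one, one_mul]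
  obtain ⟨c, hc⟩ := (Cx.chi_eq_one (x := ⟨x, hx⟩) hM).1 h
  refine ⟨(Cx.mem_St l).2 ?_, (Cx.chi_eq_one l).2 ⟨c, ?_⟩⟩
  · rw [mul_neg, neg_mul, mul_assoc, e1, mul_neg, mul_assoc W, ← mul_assoc M, hx M hM, ← mul_assoc,
      ← mul_assoc, e, neg_mul, neg_mul, neg_neg, mul_assoc S, mul_assoc S]
  · rw [mul_assoc, e2, mul_assoc W, ← mul_assoc M, hc, smul_mul_assoc, mul_smul_comm, ← mul_assoc, e3,
      mul_assoc, Cx.mul_inv hw, mul_one]

theorem del_swap (hw : C.L w W) (e : W * S = -(S * W)) : del S (W * M * W⁻¹) = (del S M)⁻¹ := by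
  rw [← del_cj (S := S) (M := M) (Cx.mul_inv hw) (Cx.inv_mul hw), e, neg_mul, mul_assoc S, Cx.mul_inv hw,
    mul_one, del_neg, inv_inv]

theorem det_of_sq {a : Matrix (Fin 2) (Fin 2) k} {c : k} (h : a * a = c • 1) (hn : ∀ l : k, a ≠ l • 1) :
    a.det = -c := by
  have e := fun i j => congrFun (congrFun h i) j
  have h00 := e 0 0
  have h01 := e 0 1
  have h10 := e 1 0
  have h11 := e 1 1
  simp [Matrix.mul_apply, Fin.sum_univ_two] at h00 h01 h10 h11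
  by_cases tr : a 0 0 + a 1 1 = 0
  · rw [det_fin_two]; linear_combination a 0 0 * tr - h00
  refine (hn (a 0 0) ?_).elim
  have a1 : a 0 1 = 0 := (mul_eq_zero.1 (show _ * a 0 1 = 0 by linear_combination h01)).resolve_left tr
  have a2 : a 1 0 = 0 := (mul_eq_zero.1 (show _ * a 1 0 = 0 by linear_combination h10)).resolve_left tr
  have a3 : a 0 0 - a 1 1 = 0 := (mul_eq_zero.1 (show _ * (a 0 0 - a 1 1) = 0 by
    linear_combination h00 - h11)).resolve_left tr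
  ext i j
  fin_cases i <;> fin_cases j <;> simp [a1, a2, sub_eq_zero.1 a3]

theorem del_of_sq (h4 : Fintype.card ι = 4) (h2 : (2 : k) ≠ 0) (hS : Bi S) (hM : M * S = S * M) {c : k}
    (c0 : c ≠ 0) (e : M * M = c • S) (n1 : ¬ ∃ l : k, M * (1 + S) = l • (1 + S))
    (n2 : ¬ ∃ l : k, M * (1 + -S) = l • (1 + -S)) : del S M = -1 := by
  obtain ⟨B, B', h1, h3, h5⟩ := hS.exists_diag h4 h2
  have mul : ∀ X Y : Matrix ι ι k, B * X * B' * (B * Y * B') = B * (X * Y) * B' := fun X Y => by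
    calc _ = B * X * (B' * B) * Y * B' := by simp only [Matrix.mul_assoc]
      _ = _ := by rw [h3, Matrix.mul_one, Matrix.mul_assoc B]
  have inj : ∀ X Y : Matrix ι ι k, B * X * B' = B * Y * B' → X = Y := fun X Y e => by
    have := congrArg (fun Z => B' * Z * B) e
    simpa only [← Matrix.mul_assoc, h3, Matrix.one_mul, Matrix.mul_assoc _ B' B, Matrix.mul_one] using this
  obtain ⟨a, d, had⟩ := (comm_S0 h2 (M := B * M * B')).1 (by rw [← h5, mul, mul, hM])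
  have e1 := mul M M
  rw [e, Matrix.mul_smul, Matrix.smul_mul, h5, had, fromBlocks_multiply, fromBlocks_smul,
    fromBlocks_inj] at e1
  have p1 : B * (1 + S) * B' = fromBlocks (1 + 1) 0 0 0 := by
    rw [Matrix.mul_add, Matrix.add_mul, Matrix.mul_one, h1, h5, ← fromBlocks_one, fromBlocks_add]; simp
  have p2 : B * (1 + -S) * B' = fromBlocks 0 0 0 (1 + 1) := by
    rw [Matrix.mul_add, Matrix.add_mul, Matrix.mul_one, h1, Matrix.mul_neg, Matrix.neg_mul, h5,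
      ← fromBlocks_one, fromBlocks_neg, fromBlocks_add]; simp
  have d1 := det_of_sq (a := a) (c := c) (by simpa using e1.1) fun l e => n1 ⟨l, inj _ _ (by
    rw [← mul, Matrix.mul_smul, Matrix.smul_mul, p1, had, e, fromBlocks_multiply, fromBlocks_smul]; simp)⟩
  have d2 := det_of_sq (a := d) (c := -c) (by simpa using e1.2.2.2) fun l e => n2 ⟨l, inj _ _ (by
    rw [← mul, Matrix.mul_smul, Matrix.smul_mul, p2, had, e, fromBlocks_multiply, fromBlocks_smul]; simp)⟩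
  rw [← del_cj h1 h3, h5, had, del_S0 h2, d1, d2, neg_neg, neg_div, div_self c0]

/-- `del` of an element whose square is the involution -/
theorem del_sq (h2 : (2 : k) ≠ 0) (ht : C.L t T) (hT : Bi T) {δ : C.St T →* kˣ}
    (hδ : ∀ (x : C.St T) M, C.L x M → (δ x : k) = del T M) (hx : x ∈ C.St T) (hx' : x ∈ C.St (-T))
    (e : x * x = t) (n1 : C.chi T ⟨x, hx⟩ ≠ 1) (n2 : C.chi (-T) ⟨x, hx'⟩ ≠ 1) : (δ ⟨x, hx⟩ : k) = -1 := by
  obtain ⟨M, hM⟩ := C.ex x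
  obtain ⟨c, c0, hc⟩ := C.uniq ht (e ▸ C.mul hM hM)
  rw [hδ ⟨x, hx⟩ M hM]
  exact del_of_sq C.card h2 hT (hx M hM) c0 hc (fun h => n1 ((Cx.chi_eq_one (x := ⟨x, hx⟩) hM).2 h))
    fun h => n2 ((Cx.chi_eq_one (x := ⟨x, hx'⟩) hM).2 h)

theorem self_mem (ht : C.L t T) : t ∈ C.St T := (Cx.mem_St ht).2 rfl

theorem anti_of (h2 : (2 : k) ≠ 0) (ht : C.L t T) (hT : Bi T) (hw : C.L w W) (hc : w ∈ 𝐂[t])
    (h : w ∉ C.St T) : W * T = -(T * W) :=
  (Cx.comm_cases h2 ht hT.1 hw (mem_centralizer_singleton_iff.1 hc)).resolve_left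
    fun e => h ((Cx.mem_St hw).2 e)

theorem mul_out (h2 : (2 : k) ≠ 0) (ht : C.L t T) (hT : Bi T) (hx : x ∈ 𝐂[t]) (hy : y ∈ 𝐂[t])
    (h : x ∉ C.St T) (h' : y ∉ C.St T) : x * y ∈ C.St T := by
  obtain ⟨M, hM⟩ := C.ex x
  obtain ⟨N, hN⟩ := C.ex y
  exact Cx.mul_mem_St hM hN (anti_of h2 ht hT hM hx h) (anti_of h2 ht hT hN hy h')

theorem norm_St (h2 : (2 : k) ≠ 0) (ht : C.L t T) (hT : Bi T) (hg : g ∈ 𝐂[t]) (hx : x ∈ C.St T) :
    g * x * g⁻¹ ∈ C.St T := by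
  by_cases e : g ∈ C.St T
  · exact mul_mem (mul_mem e hx) (inv_mem e)
  · exact mul_out h2 ht hT (mul_mem hg (Cx.St_le ht hx)) (inv_mem hg) (mt (mul_mem_cancel_right hx).1 e)
      (mt inv_mem_iff.1 e)

theorem sq_ne (ht : C.L t T) (e : x * x = t) : x ∈ C.St T := by
  obtain ⟨M, hM⟩ := C.ex x
  obtain ⟨c, -, hc⟩ := C.uniq (C.mul hM hM) (e ▸ ht)
  rw [Cx.mem_St hM, hc, mul_smul_comm, smul_mul_assoc, mul_assoc]

theorem chi_self (ht : C.L t T) (hT : Bi T) (hS : S = T ∨ S = -T) (h : t ∈ C.St S) : C.chi S ⟨t, h⟩ = 1 := by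
  rcases hS with rfl | rfl
  · exact (Cx.chi_eq_one (x := ⟨t, h⟩) ht).2 ⟨1, by rw [mul_add, hT.1, mul_one, one_smul, add_comm]⟩
  · exact (Cx.chi_eq_one (x := ⟨t, h⟩) ht).2 ⟨-1, by
      rw [mul_add, mul_neg, hT.1, mul_one, neg_one_smul, neg_add, neg_neg, add_comm]⟩

theorem nsY (H : C.Hy p) (hR : C.NR) (ht : C.L t T) (hT : Bi T) (hn : ¬ Group.IsSolvable (C.St T)) :
    ¬ Group.IsSolvable (C.Y T) := fun h => hn <| by
  haveI := H.kp_solvable hR ht hT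
  exact Group.isSolvable_of_ker_le_range (C.Kp T).subtype (C.chi T) (by simp [Cx.chi])

theorem kk (H : C.Hy p) (hR : C.NR) (ht : C.L t T) (hT : Bi T) (hn : ¬ Group.IsSolvable (C.St T))
    (hx : x ∈ C.St T) (e : C.chi T ⟨x, hx⟩ = 1) : x = 1 ∨ x = t := by
  haveI := H.fin
  have n := nsY H hR (Cx.neg ht) hT.neg (Cx.St_neg (C := C) (S := T) ▸ hn)
  obtain ⟨a⟩ := (H.tame hT.neg).a5 n
  haveI := alternatingGroup.isSimpleGroup (α := Fin 5) (by simp)
  haveI := a.isSimpleGroup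
  let φ : C.St T →* C.Y (-T) := (C.chi (-T)).comp (inclusion Cx.St_neg.ge)
  have hφ : Function.Surjective φ := Cx.chi_surj.comp fun y => ⟨⟨y, Cx.St_neg.le y.2⟩, rfl⟩
  haveI := H.kp_solvable hR ht hT
  rcases (Normal.map (inferInstance : (C.Kp T).Normal) φ hφ).eq_bot_or_eq_top with h | h
  · exact H.chi_both ht hT hx (Cx.St_neg.ge hx) e
      (mem_bot.1 (h ▸ mem_map_of_mem φ ((QuotientGroup.eq_one_iff _).1 e)))
  · exact (n (Group.isSolvable_of_surjective (f := φ.comp (C.Kp T).subtype) fun y => by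
      obtain ⟨x, hx, rfl⟩ := h.ge (mem_top y)
      exact ⟨⟨x, hx⟩, rfl⟩)).elim

/-- the action of `C(t)` on the quotient `A₅` -/
structure NS (C : Cx G k ι) (t : G) (T : Matrix ι ι k) (f : G → Perm (Fin 5)) : Prop where
  two : (2 : k) ≠ 0
  ord : orderOf t = 2
  lift : C.L t T
  bi : Bi T
  mul : ∀ {x y}, x ∈ 𝐂[t] → y ∈ 𝐂[t] → f (x * y) = f x * f y
  surj : ∀ σ, Perm.sign σ = 1 → ∃ x ∈ C.St T, f x = σ
  even : ∀ x ∈ C.St T, Perm.sign (f x) = 1
  ker : ∀ x ∈ C.St T, f x = 1 → x = 1 ∨ x = t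
  ft : f t = 1
  sq : ∀ x ∈ 𝐂[t], f x * f x = 1 → x * x = 1

theorem three5 : ∀ σ : Perm (Fin 5), Perm.sign σ = 1 → σ * σ = 1 → ∃ ρ : Perm (Fin 5), Perm.sign ρ = 1 ∧
    σ * (ρ * σ * ρ⁻¹) * (ρ⁻¹ * σ * ρ) = 1 := by decide +kernel

theorem exists_ns (H : C.Hy p) (hR : C.NR) (o : orderOf t = 2) (hn : ¬ Group.IsSolvable 𝐂[t]) :
    ∃ T f, NS C t T f := by
  classical
  haveI := H.fin
  obtain ⟨T, ht, hT⟩ := H.invol_bi hR o
  have h2 := H.two
  have le := Cx.St_le ht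
  have n : ¬ Group.IsSolvable (C.St T) := fun h => hn (solv_of_comm (fun a ha b hb => by
    by_cases e : b ∈ C.St T
    · exact mul_mem (norm_St h2 ht hT ha e) (inv_mem e)
    · exact mul_out h2 ht hT (mul_mem (mul_mem ha hb) (inv_mem ha)) (inv_mem hb) (fun c => e (by
        simpa [mul_assoc] using norm_St h2 ht hT (inv_mem ha) c)) (mt inv_mem_iff.1 e)) h)
  obtain ⟨a⟩ := (H.tame hT).a5 (nsY H hR ht hT n)
  let π := a.toMonoidHom.comp (C.chi T)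
  have hπ : Function.Surjective π := a.surjective.comp Cx.chi_surj
  have k1 : ∀ x : C.St T, π x = 1 ↔ x.1 = 1 ∨ x.1 = t := fun x => ⟨fun e => kk H hR ht hT n x.2
    (a.map_eq_one_iff.1 e), by
      rintro (e | e)
      · rw [show x = 1 from Subtype.ext e, map_one]
      · rw [show x = ⟨t, self_mem ht⟩ from Subtype.ext e]
        exact a.map_eq_one_iff.2 (chi_self ht hT (Or.inl rfl) _)⟩
  have nm : ∀ g ∈ 𝐂[t], g ∈ 𝐍(C.St T) := fun g hg => mem_normalizer_of_cj_le fun y hy => by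
    obtain ⟨y, hy', rfl⟩ := mem_cj'.1 hy
    exact norm_St h2 ht hT hg hy'
  choose f0 hf0 using fun g (hg : g ∈ 𝐂[t]) => exists_conj π hπ (nm g hg) fun x e => (k1 _).2 (by
    rcases (k1 x).1 e with e | e
    · simp [e]
    · simp [e, mem_centralizer_singleton_iff.1 hg])
  let f : G → Perm (Fin 5) := fun g => if h : g ∈ 𝐂[t] then f0 g h else 1
  have hf : ∀ g (hg : g ∈ 𝐂[t]) (x : C.St T), (π ⟨_, conj_mem_of_mem_normalizer (nm g hg) x.2⟩).1 =
      f g * (π x).1 * (f g)⁻¹ := fun g hg x => by simp only [f, dif_pos hg]; exact hf0 g hg x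
  have un : ∀ g (hg : g ∈ 𝐂[t]) (σ : Perm (Fin 5)), (∀ x : C.St T,
      (π ⟨_, conj_mem_of_mem_normalizer (nm g hg) x.2⟩).1 = σ * (π x).1 * σ⁻¹) → f g = σ := fun g hg σ h =>
    inv_mul_eq_one.1 (cent5' fun τ hτ => by
      obtain ⟨x, hx⟩ := hπ ⟨τ, Perm.mem_alternatingGroup.2 hτ⟩
      have := (hf g hg x).symm.trans (h x)
      rw [hx] at this
      calc _ = (f g)⁻¹ * (σ * τ * σ⁻¹) * σ := by group
        _ = _ := by rw [← this]; group)
  have mul : ∀ {x y}, x ∈ 𝐂[t] → y ∈ 𝐂[t] → f (x * y) = f x * f y := fun {x y} hx hy =>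
    un _ (mul_mem hx hy) _ fun z => by
      have := hf x hx ⟨_, conj_mem_of_mem_normalizer (nm y hy) z.2⟩
      rw [hf y hy] at this
      simpa only [mul_assoc, _root_.mul_inv_rev] using this
  have fπ : ∀ x : C.St T, f x = (π x).1 := fun x => un _ (le x.2) _ fun z => by
    change (π (x * z * x⁻¹)).1 = _
    rw [map_mul, map_mul, map_inv]; rfl
  have ker : ∀ x ∈ C.St T, f x = 1 → x = 1 ∨ x = t := fun x hx e =>
    (k1 ⟨x, hx⟩).1 (Subtype.ext ((fπ ⟨x, hx⟩).symm.trans e))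
  have surj : ∀ σ, Perm.sign σ = 1 → ∃ x ∈ C.St T, f x = σ := fun σ hσ => by
    obtain ⟨x, hx⟩ := hπ ⟨σ, Perm.mem_alternatingGroup.2 hσ⟩
    exact ⟨x, x.2, by rw [fπ, hx]⟩
  have even : ∀ x ∈ C.St T, Perm.sign (f x) = 1 := fun x hx =>
    fπ ⟨x, hx⟩ ▸ Perm.mem_alternatingGroup.1 (π ⟨x, hx⟩).2
  have t1 : t ≠ 1 := fun e => by simp [e] at o
  have tt : t * t = 1 := by rw [← pow_two, ← o, pow_orderOf_eq_one]
  refine ⟨T, f, h2, o, ht, hT, mul, surj, even, ker, (fπ ⟨t, self_mem ht⟩).trans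
    (congrArg Subtype.val ((k1 _).2 (Or.inr rfl))), fun x hx e => ?_⟩
  have x2 : x * x ∈ C.St T := (em (x ∈ C.St T)).elim (fun c => mul_mem c c) fun c =>
    mul_out h2 ht hT hx hx c c
  refine (ker _ x2 ((mul hx hx).trans e)).resolve_right fun e1 => ?_
  have x1 := sq_ne ht e1
  have n0 : ¬ (x = 1 ∨ x = t) := by
    rintro (rfl | rfl)
    · exact t1 (by rw [← e1, mul_one])
    · exact t1 (e1.symm.trans tt)
  obtain ⟨δ, hδ⟩ := Cx.exists_del (C := C) h2 hT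
  have d1 := del_sq h2 ht hT hδ x1 (Cx.St_neg.ge x1) e1 (fun c => n0 (kk H hR ht hT n x1 c))
    fun c => n0 (kk H hR (Cx.neg ht) hT.neg (Cx.St_neg (C := C) (S := T) ▸ n) _ c)
  obtain ⟨_, hρ, e2⟩ := three5 _ (even x x1) e
  obtain ⟨ρ, r1, rfl⟩ := surj _ hρ
  have d2 : (δ (⟨x, x1⟩ * (⟨ρ, r1⟩ * ⟨x, x1⟩ * ⟨ρ, r1⟩⁻¹) * (⟨ρ, r1⟩⁻¹ * ⟨x, x1⟩ * ⟨ρ, r1⟩)) : k) = 1 := by
    rcases (k1 (⟨x, x1⟩ * (⟨ρ, r1⟩ * ⟨x, x1⟩ * ⟨ρ, r1⟩⁻¹) * (⟨ρ, r1⟩⁻¹ * ⟨x, x1⟩ * ⟨ρ, r1⟩))).1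
      (Subtype.ext (by simpa only [map_mul, map_inv, coe_mul, coe_inv, coe_one, ← fπ] using e2)) with c | c
    · rw [(Subtype.ext c : _ = (1 : C.St T)), map_one, Units.val_one]
    · rw [hδ _ T (c ▸ ht), del_bi C.card h2 hT rfl hT]
  simp only [map_mul, map_inv, mul_inv_cancel_comm, inv_mul_cancel_comm, Units.val_mul, d1] at d2
  exact h2 (by linear_combination -d2)

end H28.R4.N2y
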