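import Mathlib
import Cfsg.Agent.Base
import Cfsg.Agent.Lib.R4.N2bA
import Cfsg.Agent.Lib.SE42.Basic
import Cfsg.Agent.S1174

/-!
# Non-solvable involution centralisers: Sylow subgroups and the inner case
-/

set_option autoImplicit false
set_option linter.unusedSectionVars false
set_option linter.style.haveILetI false

namespace H28.R4.N2y

open Matrix Subgroup Cfsg H69 Equiv
open scoped MatrixGroups commutatorElement

variable {G k ι : Type*} [Group G] [Field k] [Fintype ι] [DecidableEq ι] {C : Cx G k ι} {p : ℕ}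
  {g s t u w x y z : G} {M S T W : Matrix ι ι k} {P X Y : Subgroup G} {f : G → Perm (Fin 5)}

local notation "𝐂[" a "]" => Subgroup.centralizer ({a} : Set G)

/-- the four-group on the first four points -/
def V4 : Subgroup (Perm (Fin 5)) where
  carrier := {σ | σ = 1 ∨ σ = swap 0 1 * swap 2 3 ∨ σ = swap 0 2 * swap 1 3 ∨ σ = swap 0 3 * swap 1 2}
  mul_mem' := by
    rintro _ _ (rfl | rfl | rfl | rfl) (rfl | rfl | rfl | rfl) <;> rw [Set.mem_ofPred_eq] <;> decide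
  one_mem' := Or.inl rfl
  inv_mem' := by rintro _ (rfl | rfl | rfl | rfl) <;> rw [Set.mem_ofPred_eq] <;> decide

theorem mem_V4 {σ : Perm (Fin 5)} : σ ∈ V4 ↔
    σ = 1 ∨ σ = swap 0 1 * swap 2 3 ∨ σ = swap 0 2 * swap 1 3 ∨ σ = swap 0 3 * swap 1 2 := Iff.rfl

instance : DecidablePred (· ∈ V4) := fun _ => decidable_of_iff _ mem_V4.symm

theorem card_V4 : Nat.card V4 = 4 := by
  rw [Nat.card_eq_fintype_card]; decide +kernel

theorem V4_sq : ∀ σ ∈ V4, σ * σ = 1 ∧ Perm.sign σ = 1 := by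
  rintro _ (rfl | rfl | rfl | rfl) <;> decide

theorem V4_cj : ∀ ρ : Perm (Fin 5), ρ 4 = 4 → ∀ σ ∈ V4, ρ * σ * ρ⁻¹ ∈ V4 := by
  rintro ρ h _ (rfl | rfl | rfl | rfl) <;> revert ρ <;> decide +kernel

/-- extension of a subgroup by an involution normalising it -/
def ext (X : Subgroup G) (s : G) (hs : s * s = 1) (hn : s ∈ 𝐍(X)) : Subgroup G where
  carrier := {y | y ∈ X ∨ s * y ∈ X}
  one_mem' := Or.inl (one_mem _)
  mul_mem' := by
    rintro a b (ha | ha) (hb | hb)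
    · exact Or.inl (mul_mem ha hb)
    · exact Or.inr (by simpa [mul_assoc] using mul_mem (conj_mem_of_mem_normalizer hn ha) hb)
    · exact Or.inr (by simpa [mul_assoc] using mul_mem ha hb)
    · refine Or.inl ?_
      have := mul_mem (conj_mem_of_mem_normalizer' hn ha) (conj_mem_of_mem_normalizer' hn
        (conj_mem_of_mem_normalizer hn hb))
      rwa [show s⁻¹ * (s * a) * s * (s⁻¹ * (s * (s * b) * s⁻¹) * s) = a * (s * s) * b by group, hs,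
        mul_one] at this
  inv_mem' := by
    rintro a (ha | ha)
    · exact Or.inl (inv_mem ha)
    · refine Or.inr ?_
      have := conj_mem_of_mem_normalizer hn (inv_mem ha)
      rwa [show s * (s * a)⁻¹ * s⁻¹ = s * a⁻¹ * (s * s)⁻¹ by group, hs, inv_one, mul_one] at this

theorem mem_ext {hs : s * s = 1} {hn : s ∈ 𝐍(X)} : y ∈ ext X s hs hn ↔ y ∈ X ∨ s * y ∈ X := Iff.rfl

theorem card_ext [Finite G] {hs : s * s = 1} {hn : s ∈ 𝐍(X)} (h : s ∉ X) :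
    Nat.card (ext X s hs hn) = Nat.card X * 2 := by
  have l : X ≤ ext X s hs hn := fun _ => Or.inl
  have : X.relIndex (ext X s hs hn) = 2 :=
    relIndex_eq_two_iff_exists_notMem_and'.2 ⟨s, Or.inr (hs ▸ one_mem _), h, fun _ => Or.symm⟩
  rw [← this, ← card_subgroupOf l, relIndex, card_mul_index]

theorem sylow_of_card [Finite G] {n : ℕ} (l : P ≤ X) (h1 : Nat.card P = 2 ^ n)
    (h2 : Nat.card X = 2 ^ n * 15) : IsSylowIn 2 P X := by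
  refine isSylowIn_of_not_dvd_relIndex (IsPGroup.of_card h1) l ?_
  have := card_mul_index (P.subgroupOf X)
  rw [card_subgroupOf l, h1, h2, mul_right_inj' (by positivity)] at this
  rw [relIndex, this]; decide

theorem comm_of_sq (hx : x * x = 1) (hy : y * y = 1) (h : x * y * (x * y) = 1) : x * y = y * x := by
  rw [← inv_eq_of_mul_eq_one_right h, _root_.mul_inv_rev, inv_eq_of_mul_eq_one_right hx,
    inv_eq_of_mul_eq_one_right hy]

namespace NS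

variable (h : NS C t T f)
include h

theorem le : C.St T ≤ 𝐂[t] := Cx.St_le h.lift
theorem self : t ∈ C.St T := self_mem h.lift
theorem t1 : t ≠ 1 := fun e => by simpa [e] using h.ord
theorem tt : t * t = 1 := by rw [← pow_two, ← h.ord, pow_orderOf_eq_one]
theorem one : f 1 = 1 := by simpa using h.mul (one_mem _) (one_mem _)

theorem inv (hx : x ∈ 𝐂[t]) : f x⁻¹ = (f x)⁻¹ :=
  eq_inv_of_mul_eq_one_left (by rw [← h.mul (inv_mem hx) hx, inv_mul_cancel, h.one])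

theorem cj (hg : g ∈ 𝐂[t]) (hx : x ∈ 𝐂[t]) : f (g * x * g⁻¹) = f g * f x * (f g)⁻¹ := by
  rw [h.mul (mul_mem hg hx) (inv_mem hg), h.mul hg hx, h.inv hg]

theorem eq_of (hx : x ∈ C.St T) (hy : y ∈ C.St T) (e : f x = f y) : x = y ∨ x = y * t :=
  (h.ker _ (mul_mem (inv_mem hy) hx) (by
    rw [h.mul (inv_mem (h.le hy)) (h.le hx), h.inv (h.le hy), e, inv_mul_cancel])).imp
    (fun e => (inv_mul_eq_one.1 e).symm) fun e => inv_mul_eq_iff_eq_mul.1 e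

theorem card_of (hX : X ≤ C.St T) (ht : t ∈ X) {K : Subgroup (Perm (Fin 5))}
    (hK : ∀ σ, σ ∈ K ↔ ∃ x ∈ X, f x = σ) : Nat.card X = 2 * Nat.card K := by
  let φ : X →* Perm (Fin 5) := MonoidHom.mk' (fun x => f x) fun a b => h.mul (h.le (hX a.2)) (h.le (hX b.2))
  have e1 : φ.range = K := by
    ext σ; rw [hK]; exact ⟨fun ⟨x, e⟩ => ⟨x, x.2, e⟩, fun ⟨x, hx, e⟩ => ⟨⟨x, hx⟩, e⟩⟩
  have e2 : φ.ker = zpowers ⟨t, ht⟩ := le_antisymm (fun x hx => by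
    rcases h.ker x (hX x.2) hx with e | e
    · exact (Subtype.ext e : x = 1) ▸ one_mem _
    · exact (Subtype.ext e : x = ⟨t, ht⟩) ▸ mem_zpowers _) (zpowers_le.2 h.ft)
  rw [← card_mul_index φ.ker, index_ker, e1, e2, Nat.card_zpowers, ← orderOf_coe, h.ord]

theorem card_St : Nat.card (C.St T) = 120 := by
  rw [h.card_of le_rfl h.self (K := alternatingGroup (Fin 5)) fun σ => ⟨fun e => h.surj σ
    (Perm.mem_alternatingGroup.1 e), fun ⟨x, hx, e⟩ => e ▸ Perm.mem_alternatingGroup.2 (h.even x hx)⟩,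
    nat_card_alternatingGroup]
  simp [Nat.factorial]

theorem card_C : Nat.card 𝐂[t] = 120 * (C.St T).relIndex 𝐂[t] := by
  rw [← h.card_St, ← card_subgroupOf h.le, relIndex, card_mul_index]

theorem card_le [Finite G] : Nat.card 𝐂[t] ≤ 240 := by
  have := Cx.relIndex_St (C := C) h.two h.lift h.bi.1
  rw [h.card_C]; omega

theorem card_eq (hs : s ∈ 𝐂[t]) (s1 : s ∉ C.St T) : Nat.card 𝐂[t] = 240 := by
  rw [h.card_C, relIndex_eq_two_iff_exists_notMem_and'.2 ⟨s, hs, s1, fun b hb => (em _).symm.imp_left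
    (mul_out h.two h.lift h.bi hs hb s1)⟩]

/-- the Sylow subgroup of `St T` -/
def E : Subgroup G where
  carrier := {x | x ∈ C.St T ∧ f x ∈ V4}
  one_mem' := ⟨one_mem _, h.one ▸ one_mem _⟩
  mul_mem' := fun a b => ⟨mul_mem a.1 b.1, h.mul (h.le a.1) (h.le b.1) ▸ mul_mem a.2 b.2⟩
  inv_mem' := fun a => ⟨inv_mem a.1, h.inv (h.le a.1) ▸ inv_mem a.2⟩

theorem tE : t ∈ h.E := ⟨h.self, h.ft ▸ one_mem _⟩

theorem card_E : Nat.card h.E = 8 := by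
  rw [h.card_of (X := h.E) (fun _ a => a.1) h.tE (K := V4) fun σ => ⟨fun e => by
    obtain ⟨x, hx, rfl⟩ := h.surj σ (V4_sq σ e).2
    exact ⟨x, ⟨hx, e⟩, rfl⟩, fun ⟨x, hx, e⟩ => e ▸ hx.2⟩, card_V4]

theorem sqE (hx : x ∈ h.E) : x * x = 1 := h.sq x (h.le hx.1) (V4_sq _ hx.2).1

theorem commE : h.E ≤ 𝐂(h.E) := fun _ hx _ hy => comm_of_sq (h.sqE hy) (h.sqE hx) (h.sqE (mul_mem hy hx))

theorem nE [Finite G] (hg : g ∈ 𝐂[t]) (e : f g 4 = 4) : g ∈ 𝐍(h.E) := mem_normalizer_of_cj_le fun y hy => by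
  obtain ⟨y, hy', rfl⟩ := mem_cj'.1 hy
  exact ⟨norm_St h.two h.lift h.bi hg hy'.1, h.cj hg (h.le hy'.1) ▸ V4_cj _ e _ hy'.2⟩

theorem rad (H : C.Hy p) (hR : C.NR) (hs : s ∈ h.E) (hS : C.L s S) (e : h.E ≤ C.St S) : s = 1 ∨ s = t := by
  obtain ⟨r, hr, -, h1⟩ := H.rad8 hR (fun a ha => (pow_two a).trans (h.sqE ha)) h.card_E
  obtain ⟨R, hR⟩ := C.ex r
  rw [((h1 R hR).2 t h.tE T h.lift fun _ a => a.1).resolve_left h.t1]
  exact (h1 R hR).2 s hs S hS e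

theorem normE (H : C.Hy p) (hR : C.NR) : 𝐍(h.E) ≤ 𝐂[t] := fun g hg => by
  obtain ⟨M, hM⟩ := C.ex g
  refine mem_centralizer_singleton_iff.2 (mul_inv_eq_iff_eq_mul.1 ((h.rad H hR
    (conj_mem_of_mem_normalizer hg h.tE) (Cx.conj hM h.lift) fun x hx => ?_).resolve_left
      (mt conj_eq_one_iff.1 h.t1)))
  obtain ⟨N, hN⟩ := C.ex (g⁻¹ * x * g)
  have e := (conj_mem_of_mem_normalizer' hg hx).1 N hN
  have l := Cx.conj hM hN
  rw [show g * (g⁻¹ * x * g) * g⁻¹ = x by group] at l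
  rw [Cx.mem_St l]
  calc _ = M * (N * (M⁻¹ * M) * T) * M⁻¹ := by simp only [mul_assoc]
    _ = M * (T * (M⁻¹ * M) * N) * M⁻¹ := by rw [Cx.inv_mul hM, mul_one, mul_one, e]
    _ = _ := by simp only [mul_assoc]

theorem exists_out (H : C.Hy p) (hR : C.NR) : ∃ s ∈ 𝐂[t], s ∉ C.St T ∧ (f s = 1 ∨ f s = swap 0 1) := by
  haveI := H.fin
  haveI := H.simple
  obtain ⟨s, hs, s1⟩ : ∃ s ∈ 𝐂[t], s ∉ C.St T := by
    by_contra! c
    exact zstar H.nab (sylow_of_card (n := 3) (P := h.E) (fun _ a => h.le a.1) h.card_E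
      (by rw [← le_antisymm h.le c, h.card_St]; rfl)) h.commE h.tE h.ord (h.normE H hR)
  have : ∀ σ, Perm.sign σ = Perm.sign (f s) → ∃ s ∈ 𝐂[t], s ∉ C.St T ∧ f s = σ := fun σ e => by
    obtain ⟨x, hx, e1⟩ := h.surj ((f s)⁻¹ * σ) (by simp [e])
    exact ⟨s * x, mul_mem hs (h.le hx), mt (mul_mem_cancel_right hx).1 s1, by
      rw [h.mul hs (h.le hx), e1, mul_inv_cancel_left]⟩
  rcases Int.units_eq_one_or (Perm.sign (f s)) with e | e
  · exact (this 1 (by simp [e])).imp fun s a => ⟨a.1, a.2.1, Or.inl a.2.2⟩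
  · exact (this (swap 0 1) (by simp [e])).imp fun s a => ⟨a.1, a.2.1, Or.inr a.2.2⟩

theorem syl [Finite G] (hs : s ∈ 𝐂[t]) (s1 : s ∉ C.St T) {ss : s * s = 1} {hn : s ∈ 𝐍(h.E)} :
    Nat.card (ext h.E s ss hn) = 16 ∧ IsSylowIn 2 (ext h.E s ss hn) 𝐂[t] := by
  have c : Nat.card (ext h.E s ss hn) = 16 := by rw [card_ext (X := h.E) fun a => s1 a.1, h.card_E]
  exact ⟨c, sylow_of_card (n := 4) (fun x hx => hx.elim (fun a => h.le a.1) fun a =>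
    (mul_mem_cancel_left hs).1 (h.le a.1)) c (h.card_eq hs s1)⟩

end NS

theorem two5 : ∀ σ : Perm (Fin 5), Perm.sign σ = 1 → ∃ a : Perm (Fin 5), Perm.sign a = 1 ∧ a * a = 1 ∧
    a * σ * (a * σ) = 1 := by decide +kernel

/-- the three-cycle -/
def c6 : Perm (Fin 6) := swap 0 1 * swap 1 2

/-- the properties of the permutations induced on the frame -/
def Gd (σ : Perm (Fin 6)) : Prop :=
  (∀ x y, x ≠ y → 3 ≤ x → 3 ≤ y → 3 ≤ σ x → 3 ≤ σ y → ∀ z, 3 ≤ z → 3 ≤ σ z) ∧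
  (∀ x y, x ≠ y → 3 ≤ x → 3 ≤ y → (σ x = x ∧ σ y = y ∨ σ x = y ∧ σ y = x) → σ 3 = 3 ∧ σ 4 = 4 ∧ σ 5 = 5) ∧
  ¬ (σ * σ = 1 ∧ ∀ x, σ x ≠ x) ∧ (σ 3 = 3 → σ 4 = 4 → σ 5 = 5 → σ = 1 ∨ σ = c6 ∨ σ * c6 = 1)

instance : DecidablePred Gd := fun _ =>
  @instDecidableAnd _ _ inferInstance (@instDecidableAnd _ _ inferInstance inferInstance)

theorem six : ∀ σ, Gd σ → Gd (σ⁻¹ * c6 * σ) → Gd (σ * σ) → Gd (σ * σ * σ) →
    (∀ z, 3 ≤ z → 3 ≤ σ z) ∧ (σ * σ = 1 → σ = 1) := by decide +kernel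

theorem six1 : ∀ σ : Perm (Fin 6), σ * σ = 1 → (∀ x, σ x ≠ x) → ∃ l n, [0, σ 0, l, σ l, n, σ n].Nodup ∧
    σ = swap 0 (σ 0) * swap l (σ l) * swap n (σ n) := by decide +kernel

theorem six2 : ∀ σ : Perm (Fin 6), σ 3 = 3 → σ 4 = 4 → σ 5 = 5 → (σ = 1 ∨ σ = c6 ∨ σ * c6 = 1) ∨
    σ = swap 0 1 ∨ σ = swap 0 2 ∨ σ = swap 1 2 := by decide +kernel

theorem six3 : ∀ i j l m : Fin 6, i ≠ j → l ≠ m → ¬ [i, j, l, m].Nodup → ¬ (i = l ∧ j = m ∨ i = m ∧ j = l) →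
    ∃ a b c : Fin 6, a ≠ b ∧ b ≠ c ∧ a ≠ c ∧ (i = b ∧ j = c ∨ i = c ∧ j = b) ∧
      (l = a ∧ m = b ∨ l = b ∧ m = a) := by decide +kernel

theorem six4 (a b c : Fin 6) : a ≠ b → b ≠ c → a ≠ c → ∃ σ : Perm (Fin 6), σ 3 = a ∧ σ 4 = b ∧ σ 5 = c :=
  fun h1 h2 h3 => ⟨swap ((swap (swap 3 a 4) b * swap 3 a) 5) c * (swap (swap 3 a 4) b * swap 3 a), by
    revert a b c; decide +kernel⟩

theorem frame3 (H : C.Hy p) (hX : ∀ a ∈ X, a ^ 2 = 1) (h16 : Nat.card X = 16) (ht : t ∈ X) (hs : s ∈ X)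
    (t1 : t ≠ 1) (hT : C.L t T) (s1 : s ∉ C.St T) : ∃ (γ : Fin 6 → Fin 6 → Matrix ι ι k)
      (b : Fin 6 → Fin 6 → G), C.FG γ b ∧ Cx.fA b = X ∧ t = b 4 5 ∧ s = b 3 4 := by
  obtain ⟨γ, b, hb, rfl⟩ := H.exists_frame hX h16
  obtain ⟨i, j, rfl⟩ := (hb.mem_fA H.two).1 ht
  obtain ⟨l, m, rfl⟩ := (hb.mem_fA H.two).1 hs
  have ij : i ≠ j := fun e => t1 (e ▸ hb.self' H.two i)
  have lm : l ≠ m := fun e => s1 (by rw [e, hb.self' H.two]; exact one_mem _)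
  obtain ⟨a, c, d, h1, h2, h3, h4, h5⟩ := six3 i j l m ij lm (fun e => s1 (by
    obtain ⟨x, -, rfl⟩ := C.uniq (hb.lift i j) hT
    rw [Cx.mem_St (hb.lift l m), mul_smul_comm, smul_mul_assoc, hb.toFr.comm e])) fun e =>
      s1 ((hb.eq_iff H.two ij).2 e ▸ self_mem hT)
  obtain ⟨σ, rfl, rfl, rfl⟩ := six4 a c d h1 h2 h3
  refine ⟨_, _, hb.perm σ, Cx.FG.fA_perm σ, (hb.eq_iff H.two ij).2 h4, (hb.eq_iff H.two lm).2 h5⟩

theorem NS.inner (h : NS C t T f) (H : C.Hy p) (hR : C.NR) (hn : ¬ Group.IsSolvable 𝐂[t]) (hs : s ∈ 𝐂[t])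
    (s1 : s ∉ C.St T) (fs : f s = 1) : False := by
  haveI := H.fin
  haveI := H.simple
  have h2 := H.two
  have ss : s * s = 1 := h.sq s hs (by rw [fs, one_mul])
  have fm : ∀ x ∈ 𝐂[t], f (s * x) = f x := fun x hx => by rw [h.mul hs hx, fs, one_mul]
  have c0 : ∀ x ∈ 𝐂[t], f x * f x = 1 → x * s = s * x := fun x hx e =>
    (comm_of_sq ss (h.sq x hx e) (h.sq _ (mul_mem hs hx) (by rwa [fm x hx]))).symm
  have cen : s ∈ 𝐂(𝐂[t]) := fun x hx => by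
    obtain ⟨_, a1, a2, a3⟩ := two5 (f x) ((em _).elim (h.even x) fun c =>
      fm x hx ▸ h.even _ (mul_out h2 h.lift h.bi hs hx s1 c))
    obtain ⟨a, ha, rfl⟩ := h.surj _ a1
    have e1 := c0 a (h.le ha) a2
    have e2 := c0 _ (mul_mem (h.le ha) hx) (by rwa [h.mul (h.le ha) hx])
    rwa [← mul_assoc, ← e1, mul_assoc, mul_assoc, mul_right_inj] at e2
  have tF : t ∈ 𝐂(𝐂[t]) := fun x hx => mem_centralizer_singleton_iff.1 hx
  have FC : 𝐂(𝐂[t]) ≤ 𝐂[t] := fun x hx => mem_centralizer_singleton_iff.2 (hx t (h.le h.self)).symm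
  have k0 : ∀ x ∈ 𝐂(𝐂[t]), x ∈ C.St T → x = 1 ∨ x = t := fun x hx c => h.ker x c (cent5' fun τ hτ => by
    obtain ⟨y, hy, rfl⟩ := h.surj τ hτ
    rw [← h.mul (FC hx) (h.le hy), ← hx y (h.le hy), h.mul (h.le hy) (FC hx)])
  have mF : ∀ x, x ∈ 𝐂(𝐂[t]) ↔ x = 1 ∨ x = t ∨ x = s ∨ x = s * t := fun x => ⟨fun hx => by
    by_cases c : x ∈ C.St T
    · exact (k0 x hx c).imp_right Or.inl
    · rcases k0 _ (mul_mem (inv_mem cen) hx) (mul_out h2 h.lift h.bi (inv_mem hs) (FC hx)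
        (mt inv_mem_iff.1 s1) c) with e | e
      · exact Or.inr (Or.inr (Or.inl (inv_mul_eq_one.1 e).symm))
      · exact Or.inr (Or.inr (Or.inr (inv_mul_eq_iff_eq_mul.1 e))), by
    rintro (rfl | rfl | rfl | rfl)
    exacts [one_mem _, tF, cen, mul_mem cen tF]⟩
  have sn : s ∈ 𝐍(h.E) := h.nE hs (by rw [fs]; rfl)
  obtain ⟨c16, sy⟩ := h.syl hs s1 (ss := ss) (hn := sn)
  set A := ext h.E s ss sn
  have sqA : ∀ a ∈ A, a * a = 1 := fun a ha => ha.elim h.sqE fun e =>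
    h.sq a (sy.le ha) (V4_sq _ (fm a (sy.le ha) ▸ e.2)).1
  have FA : 𝐂(𝐂[t]) ≤ A := fun x hx => by
    have : s ∈ A := Or.inr (ss ▸ one_mem _)
    rcases (mF x).1 hx with rfl | rfl | rfl | rfl
    exacts [one_mem _, Or.inl h.tE, this, mul_mem this (Or.inl h.tE)]
  have cF : ∀ x ∈ 𝐂(𝐂[t]), x ≠ 1 → 𝐂[x] = 𝐂[t] := fun x hx x1 => by
    have l : 𝐂[t] ≤ 𝐂[x] := fun y hy => mem_centralizer_singleton_iff.2 (hx y hy)
    obtain ⟨T', f', h'⟩ := exists_ns H hR (orderOf_eq_prime ((pow_two x).trans (sqA x (FA hx))) x1)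
      fun e => hn (Group.isSolvable_of_isSolvable_injective (inclusion_injective l))
    exact (eq_of_le_of_card_ge l (h.card_eq hs s1 ▸ h'.card_le)).symm
  obtain ⟨γ, b, hb, eA, et, es⟩ := frame3 H (fun a ha => (pow_two a).trans (sqA a ha)) c16
    (FA tF) (FA cen) h.t1 h.lift s1
  have b1 : ∀ {x y}, x ≠ y → b x y ≠ 1 := fun c e => by simpa [e] using hb.order h2 c
  have bF : ∀ x y, x ≠ y → (b x y ∈ 𝐂(𝐂[t]) ↔ 3 ≤ x ∧ 3 ≤ y) := fun x y c => by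
    rw [mF, es, et, hb.mul' h2, hb.eq_iff h2 c, hb.eq_iff h2 c, hb.eq_iff h2 c, or_iff_right (b1 c)]
    revert x y; decide
  have fx : ∀ σ, ∀ g ∈ 𝐂[t], Cx.Ind b g σ → σ 3 = 3 ∧ σ 4 = 4 ∧ σ 5 = 5 := fun σ g hg i => by
    have e1 := (hb.eq_iff h2 (by decide)).1 ((mul_inv_eq_iff_eq_mul.2 (es ▸ cen g hg)).symm.trans (i 3 4))
    have e2 := (hb.eq_iff h2 (by decide)).1 ((mul_inv_eq_iff_eq_mul.2 (et ▸ tF g hg)).symm.trans (i 4 5))
    omega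
  have gd : ∀ σ ∈ Cx.fB b, Gd σ := fun σ hσ => by
    obtain ⟨g, i⟩ := id hσ
    refine ⟨fun x y c x3 y3 x4 y4 z z3 => ?_, fun x y c x3 y3 e => fx σ g ?_ i, fun ⟨e1, e2⟩ => ?_,
      fun e1 e2 e3 => (six2 σ e1 e2 e3).resolve_right ?_⟩
    · have c' : σ x ≠ σ y := σ.injective.ne c
      have n : g ∈ 𝐍(𝐂(𝐂[t])) := normalizer_le_normalizer_centralizer _ (cj_eq_self_iff.1 (by
        rw [← cF _ ((bF x y c).2 ⟨x3, y3⟩) (b1 c), cj_centralizer_singleton, i,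
          cF _ ((bF _ _ c').2 ⟨x4, y4⟩) (b1 c'), cF _ ((bF x y c).2 ⟨x3, y3⟩) (b1 c)]))
      by_cases e : z = x
      · rwa [e]
      · exact ((bF _ _ (σ.injective.ne e)).1 (i z x ▸ conj_mem_of_mem_normalizer n
          ((bF z x e).2 ⟨z3, x3⟩))).1
    · rw [← cF _ ((bF x y c).2 ⟨x3, y3⟩) (b1 c), mem_centralizer_singleton_iff, ← mul_inv_eq_iff_eq_mul, i]
      exact ((hb.eq_iff h2 c).2 (by omega)).symm
    · obtain ⟨l, n, e3, e4⟩ := six1 σ e1 e2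
      exact H.no_triple hR hb e3 (e4 ▸ hσ)
    · rintro (rfl | rfl | rfl) <;> exact H.no_swap hb (by decide) hσ
  have cB : c6 ∈ Cx.fB b := by
    obtain ⟨r, hr, e⟩ := h.surj (swap 0 1 * swap 1 2) (by decide)
    have n := h.nE (h.le hr) (by rw [e]; rfl)
    obtain ⟨τ, i⟩ := (hb.mem_norm h2 (g := r)).1 (eA ▸ mem_normalizer_of_cj_le fun y hy => by
      obtain ⟨y, hy', rfl⟩ := mem_cj'.1 hy
      refine hy'.imp (conj_mem_of_mem_normalizer n) fun a => ?_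
      have := conj_mem_of_mem_normalizer n a
      rwa [← mul_assoc, cen r (h.le hr), mul_assoc s, mul_assoc s] at this)
    obtain ⟨e1, e2, e3⟩ := fx τ r (h.le hr) i
    rcases (gd τ ⟨r, i⟩).2.2.2 e1 e2 e3 with rfl | rfl | e4
    · have : f r ∈ V4 := (show r ∈ A from eA ▸ (hb.ind_one h2).1 i).elim (fun a => a.2) fun a =>
        fm r (h.le hr) ▸ a.2
      exact absurd (e ▸ this) (by decide)
    · exact ⟨r, i⟩
    · exact eq_inv_of_mul_eq_one_right e4 ▸ inv_mem ⟨r, i⟩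
  have key := fun σ (hσ : σ ∈ Cx.fB b) => six σ (gd σ hσ) (gd _ (mul_mem (mul_mem (inv_mem hσ) cB) hσ))
    (gd _ (mul_mem hσ hσ)) (gd _ (mul_mem (mul_mem hσ hσ) hσ))
  have sy1 : IsSylowIn 2 A ⊤ := (grow sy.isP).resolve_right fun ⟨g, g1, g2, g3⟩ => by
    obtain ⟨σ, i⟩ := (hb.mem_norm h2).1 (eA.symm ▸ g1)
    have : σ = 1 := (key σ ⟨g, i⟩).2 (hb.ind_unique h2 (g := g * g) (fun x y => by
      rw [Perm.mul_apply, Perm.mul_apply, ← i, ← i]; group) ((hb.ind_one h2).2 (eA.symm ▸ g3)))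
    exact g2 (eA ▸ (hb.ind_one h2).1 (this ▸ i))
  have cA : A ≤ 𝐂(A) := fun x hx y hy => comm_of_sq (sqA y hy) (sqA x hx) (sqA _ (mul_mem hy hx))
  have sc : ∀ x ∈ 𝐂(𝐂[t]), ∀ g, g * x * g⁻¹ ∈ A → g * x * g⁻¹ ∈ 𝐂(𝐂[t]) := fun x hx g e => by
    obtain ⟨n, hn, e1⟩ := burn sy1 cA (FA hx) e
    obtain ⟨σ, i⟩ := (hb.mem_norm h2).1 (eA.symm ▸ hn)
    obtain ⟨x, y, rfl⟩ := (hb.mem_fA h2).1 (eA.symm ▸ FA hx)
    by_cases c : x = y
    · simp [c, hb.self' h2]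
    rw [e1, i, bF _ _ (σ.injective.ne c)]
    exact ((bF x y c).1 hx).imp ((key σ ⟨n, i⟩).1 x) ((key σ ⟨n, i⟩).1 y)
  obtain ⟨Q, hQ⟩ := sy1.exists_sylow_top
  obtain ⟨K, hK⟩ := Cfsg.Agent.S1174.result Q 𝐂(𝐂[t]) (fun e => h.t1 (mem_bot.1 (e ▸ tF)))
    (hQ ▸ ⟨FA, sc⟩) fun e => by
      have : 𝐂[t] = ⊤ := top_le_iff.1 (e.ge.trans (iSup_le fun x => (cF x x.2.1 fun e => by
        simpa [e] using x.2.2).le))
      have e1 := (inferInstance : (center G).Normal).eq_bot_or_eq_top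
      rw [this, centralizer_top] at tF
      exact e1.elim (fun e => h.t1 (mem_bot.1 (e ▸ tF))) fun e =>
        H.nab ⟨⟨fun a b => mem_center_iff.1 (e ▸ mem_top b) a⟩⟩
  obtain ⟨g, e⟩ := isConj_iff.1 (H42.SE.isConj hK h.ord (hb.order h2 (i := 0) (j := 1) (by decide)))
  have := sc t tF g (e ▸ eA ▸ (hb.mem_fA h2).2 ⟨0, 1, rfl⟩)
  rw [e, bF 0 1 (by decide)] at this
  exact absurd this (by decide)

end H28.R4.N2y
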