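import Mathlib
import Cfsg.Agent.Base
import Cfsg.Agent.Lib.R4.Frame
import Cfsg.Agent.Lib.R4.N2bB
import Cfsg.Agent.Lib.GL.SylowSL2
import Cfsg.Agent.S3309

/-!
# Involution centralisers are solvable
-/

set_option autoImplicit false
set_option linter.unusedSectionVars false
set_option linter.style.haveILetI false

namespace H28.R4

open Matrix Subgroup Cfsg
open scoped MatrixGroups

variable {G k ι : Type*} [Group G] [Field k] [Fintype ι] [DecidableEq ι] {C : Cx G k ι} {p : ℕ}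
  {γ : Fin 6 → Fin 6 → Matrix ι ι k} {b : Fin 6 → Fin 6 → G}

namespace N2y

open H69 Equiv

variable {g s t u w x y z : G} {M S T W Z : Matrix ι ι k} {P : Subgroup G} {f : G → Perm (Fin 5)}

local notation "𝐂[" a "]" => Subgroup.centralizer ({a} : Set G)

theorem not_sylow [Finite G] [IsSimpleGroup G] (hG : ¬ IsMulCommutative G) (hP : IsSylowIn 2 P ⊤)
    (c : Nat.card P = 16) (tt : t * t = 1) (ss : s * s = 1) (uu : u * u = 1) (d4 : (s * u) ^ 4 = 1)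
    (ts : s * t = t * s) (tu : u * t = t * u)
    (gen : ∀ K : Subgroup G, t ∈ K → s ∈ K → u ∈ K → P ≤ K) : False := by
  let φ : Multiplicative (ZMod 2) →* G := MonoidHom.mk' (fun a => t ^ a.toAdd.val) fun a b =>
    H10.pow_val_add ((pow_two t).trans tt) _ _
  let ψ := H10.dihHom (s * u) s d4 ss (by
    rw [_root_.mul_inv_rev, inv_eq_of_mul_eq_one_right uu, ← mul_assoc, ss, one_mul])
  let χ := φ.noncommCoprod ψ fun a x => by
    have h1 : Commute t s := ts.symm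
    have h2 : Commute t (s * u) := h1.mul_right tu.symm
    rcases x with i | i
    · exact (h2.pow_right _).pow_left _
    · exact (h1.mul_right (h2.pow_right _)).pow_left _
  have s1 : s ∈ χ.range := ⟨(1, .sr 0), by simp [χ, ψ, H10.dihHom]⟩
  have l : P ≤ χ.range := gen _ ⟨(.ofAdd 1, 1), by simp [χ, φ, ZMod.val_one]⟩ s1
    ((mul_mem_cancel_left s1).1 ⟨(1, .r 1), by simp [χ, ψ, H10.dihHom]; exact pow_one _⟩)
  have c1 : Nat.card (Multiplicative (ZMod 2) × DihedralGroup 4) = 16 := by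
    rw [Nat.card_prod, DihedralGroup.nat_card]; simp
  have c2 := Nat.card_le_card_of_surjective _ χ.rangeRestrict_surjective
  obtain rfl := eq_of_le_of_card_ge l (c ▸ c1 ▸ c2)
  obtain ⟨Q, hQ⟩ := hP.exists_sylow_top
  exact Cfsg.Agent.S3309.result Q ⟨(MulEquiv.subgroupCongr hQ).trans (MulEquiv.ofBijective _
    ((Nat.bijective_iff_surjective_and_card _).2 ⟨χ.rangeRestrict_surjective, c1.trans c.symm⟩)).symm⟩ hG

theorem chi_ne (H : C.Hy p) (hz : C.L z Z) (hZ : Bi Z) (hu : u ∈ 𝐂[z]) (u1 : u ∉ C.St Z) (hx : x ∈ C.St Z)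
    (e : u * x * u⁻¹ = x ∨ u * x * u⁻¹ = z * x) (x1 : x ≠ 1) (xz : x ≠ z) : C.chi Z ⟨x, hx⟩ ≠ 1 := fun c => by
  obtain ⟨U, hU⟩ := C.ex u
  obtain ⟨h1, h2⟩ := swap_chi hU (anti_of H.two hz hZ hU hu u1) hx c
  refine (H.chi_both hz hZ hx (Cx.St_neg.ge hx) c ?_).elim x1 xz
  rcases e with e | e
  · simpa only [e] using h2
  · have z1 := Cx.St_neg.ge (self_mem hz)
    rwa [show (⟨_, h1⟩ : C.St (-Z)) = ⟨z, z1⟩ * ⟨x, Cx.St_neg.ge hx⟩ from Subtype.ext e, map_mul,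
      chi_self hz hZ (Or.inr rfl), one_mul] at h2

theorem side (H : C.Hy p) (hz : C.L z Z) (hZ : Bi Z) (hg : g ∈ C.St Z) (ht : t ∈ C.St Z) (tt : t * t = 1)
    (e1 : g * g * (g * g) = z) (e2 : g * t * g⁻¹ = z * t) (n1 : C.chi Z ⟨g * g, mul_mem hg hg⟩ ≠ 1)
    (n2 : C.chi Z ⟨t, ht⟩ ≠ 1) : C.chi Z ⟨t⁻¹ * (g * g), mul_mem (inv_mem ht) (mul_mem hg hg)⟩ = 1 := by
  haveI := H.fin
  have z1 := chi_self hz hZ (Or.inl rfl) (self_mem hz)
  have := (H.tame hZ).l4 (a := C.chi Z ⟨g, hg⟩) (u := C.chi Z ⟨t, ht⟩)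
    (orderOf_eq_prime_pow (p := 2) (n := 1) (by rwa [pow_one, pow_two, ← map_mul]) (by
      rw [← map_pow, ← z1]; exact congrArg _ (Subtype.ext (by simp [← e1, pow_succ, mul_assoc]))))
    (orderOf_eq_prime (by rw [← map_pow, show (⟨t, ht⟩ : C.St Z) ^ 2 = 1 from
      Subtype.ext ((pow_two t).trans tt), map_one]) n2) (mul_inv_eq_iff_eq_mul.1 (by
        rw [← map_inv, ← map_mul, ← map_mul, show (⟨g, hg⟩ * ⟨t, ht⟩ * ⟨g, hg⟩⁻¹ : C.St Z) =
          ⟨z, self_mem hz⟩ * ⟨t, ht⟩ from Subtype.ext e2, map_mul, z1, one_mul]))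
  change C.chi Z (⟨t, ht⟩⁻¹ * (⟨g, hg⟩ * ⟨g, hg⟩)) = 1
  rw [map_mul, map_inv, map_mul, this, pow_two, inv_mul_cancel]

theorem fin8 (H : C.Hy p) (hR : C.NR) (hz : C.L z Z) (hZ : Bi Z) (hu : u ∈ P) (ht : t ∈ C.St Z)
    (hP : P ≤ 𝐂[z]) (u1 : u ∉ C.St Z) (sq : ∀ x ∈ P, x * x = 1 ∨ x * x = z) (uu : u * u = 1)
    (tt : t * t = 1) (zz : z * z = 1) (z1 : z ≠ 1) (t1 : t ≠ 1) (tz : t ≠ z) (ut : u * t = t * u)
    (hg : g ∈ C.St Z) (g2 : g * g ∈ P) (gt : g * t * g⁻¹ = z * t) (gu : g * u * g⁻¹ ∈ P)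
    (e : g * u * g⁻¹ * u⁻¹ * (g * u * g⁻¹ * u⁻¹) = z) : False := by
  have h2 := H.two
  have cu : ∀ x ∈ P, x * x = z → (u * x * u⁻¹ = x ∨ u * x * u⁻¹ = z * x) ∧ x ≠ 1 ∧ x ≠ z := fun x hx e => by
    refine ⟨?_, fun c => z1 (by rw [← e, c, mul_one]), fun c => z1 (by rw [← e, c, zz])⟩
    have e1 : u * x * u⁻¹ = u * x * (u * x) * (z * x) := by
      rw [inv_eq_of_mul_eq_one_right uu, ← e, mul_assoc _ _ (x * x * x), mul_assoc u x (x * x * x),
        ← mul_assoc x, ← mul_assoc x, mul_assoc (x * x), e, zz, mul_one]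
    rcases sq _ (mul_mem hu hx) with c | c
    · exact Or.inr (by rw [e1, c, one_mul])
    · exact Or.inl (by rw [e1, c, ← mul_assoc, zz, one_mul])
  have both : ∀ {x} (hx : x ∈ C.St Z), (u * x * u⁻¹ = x ∨ u * x * u⁻¹ = z * x) ∧ x ≠ 1 ∧ x ≠ z →
      C.chi Z ⟨x, hx⟩ ≠ 1 ∧ C.chi (-Z) ⟨x, Cx.St_neg.ge hx⟩ ≠ 1 := fun hx c =>
    ⟨chi_ne H hz hZ (hP hu) u1 hx c.1 c.2.1 c.2.2,
      chi_ne H (Cx.neg hz) hZ.neg (hP hu) (mt (Cx.St_neg.le ·) u1) _ c.1 c.2.1 c.2.2⟩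
  obtain ⟨δ, hδ⟩ := Cx.exists_del (C := C) h2 hZ
  have x1 := sq_ne hz e
  have b1 := both x1 (cu _ (mul_mem gu (inv_mem hu)) e)
  have d1 := del_sq h2 hz hZ hδ x1 _ e b1.1 b1.2
  have y1 := norm_St h2 hz hZ (hP hu) (inv_mem hg)
  have d2 : δ ⟨_, y1⟩ = δ ⟨g, hg⟩ := by
    obtain ⟨U, hU⟩ := C.ex u
    obtain ⟨M, hM⟩ := C.ex g⁻¹
    rw [← inv_inv (δ ⟨g, hg⟩), ← map_inv, Units.ext_iff, hδ ⟨_, y1⟩ _ (Cx.conj hU hM), Units.val_inv_eq_inv_val,
      hδ _ M hM, del_swap hU (anti_of h2 hz hZ hU (hP hu) u1)]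
  rw [show (⟨_, x1⟩ : C.St Z) = ⟨g, hg⟩ * ⟨_, y1⟩ from Subtype.ext (by simp [mul_assoc]), map_mul, d2,
    ← map_mul] at d1
  have g4 : g * g * (g * g) = z := (sq _ g2).resolve_left fun c => by
    by_cases c1 : g * g = 1
    · rw [show (⟨g, hg⟩ * ⟨g, hg⟩ : C.St Z) = 1 from Subtype.ext c1, map_one, Units.val_one] at d1
      exact h2 (by linear_combination d1)
    obtain ⟨N, hN, bN⟩ := H.invol_bi hR (orderOf_eq_prime ((pow_two _).trans c) c1)
    rw [hδ _ N hN, del_bi C.card h2 hZ (mul_mem hg hg N hN) bN] at d1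
    exact h2 (by linear_combination d1)
  have b2 := both (mul_mem hg hg) (cu _ g2 g4)
  have b3 := both ht ⟨Or.inl (mul_inv_eq_iff_eq_mul.2 ut), t1, tz⟩
  have zt : t * z = z * t := mem_centralizer_singleton_iff.1 (Cx.St_le hz ht)
  rcases H.chi_both hz hZ _ _ (side H hz hZ hg ht tt g4 gt b2.1 b3.1) (side H (Cx.neg hz) hZ.neg
    (Cx.St_neg.ge hg) (Cx.St_neg.ge ht) tt g4 gt b2.2 b3.2) with c | c
  · exact z1 (by rw [← g4, ← inv_mul_eq_one.1 c, tt])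
  · refine z1 ?_
    rw [← g4, inv_mul_eq_iff_eq_mul.1 c, mul_assoc, ← mul_assoc z, ← zt, mul_assoc, zz, mul_one, tt]

theorem out1 : ∀ σ ∈ V4, swap 0 1 * σ * (swap 0 1 * σ) = 1 ∨
    (swap 0 2 * swap 1 3) * σ = 1 ∨ (swap 0 2 * swap 1 3) * σ = swap 0 1 * swap 2 3 := by
  rintro _ (rfl | rfl | rfl | rfl) <;> decide

theorem out2 : ∀ σ ∈ V4, σ = 1 ∨ σ = swap 0 1 * swap 2 3 ∨
    (swap 0 2 * swap 1 3) * σ = 1 ∨ (swap 0 2 * swap 1 3) * σ = swap 0 1 * swap 2 3 := by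
  rintro _ (rfl | rfl | rfl | rfl) <;> decide

theorem out3 : ∀ σ : Perm (Fin 5), σ ∈ V4 ∨ swap 0 1 * σ ∈ V4 → σ * swap 0 1 = swap 0 1 * σ →
    σ * (swap 0 2 * swap 1 3) = (swap 0 2 * swap 1 3) * σ →
    swap 0 1 * σ ∉ V4 ∧ (σ = 1 ∨ σ = swap 0 1 * swap 2 3) := by decide +kernel

theorem out4 : ∀ σ : Perm (Fin 5), swap 0 1 * σ ∈ V4 → σ * σ = 1 →
    σ * (swap 0 2 * swap 1 3)⁻¹ * (σ * (swap 0 2 * swap 1 3)⁻¹) ≠ 1 := by decide +kernel

theorem NS.outer (h : NS C t T f) (H : C.Hy p) (hR : C.NR) (hs : s ∈ 𝐂[t]) (s1 : s ∉ C.St T)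
    (fs : f s = swap 0 1) : False := by
  haveI := H.fin
  haveI := H.simple
  have h2 := H.two
  have ss : s * s = 1 := h.sq s hs (by rw [fs]; decide)
  have sn : s ∈ 𝐍(h.E) := h.nE hs (by rw [fs]; rfl)
  obtain ⟨c16, sy⟩ := h.syl hs s1 (ss := ss) (hn := sn)
  set P := ext h.E s ss sn
  obtain ⟨u, hu, fu⟩ := h.surj (swap 0 2 * swap 1 3) (by decide)
  have uE : u ∈ h.E := ⟨hu, fu ▸ by decide⟩
  have uu := h.sqE uE
  have si := inv_eq_of_mul_eq_one_right ss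
  obtain ⟨z, hz⟩ : ∃ z, z = s * u * (s * u) := ⟨_, rfl⟩
  have zE : z ∈ h.E := by
    have := mul_mem (conj_mem_of_mem_normalizer sn uE) uE
    rwa [si, mul_assoc (s * u), ← hz] at this
  have su := mul_mem hs (h.le hu)
  have fz : f z = swap 0 1 * swap 2 3 := by rw [hz, h.mul su su, h.mul hs (h.le hu), fs, fu]; decide
  have zz := h.sqE zE
  have zn : ¬ (z = 1 ∨ z = t) := by
    rintro (e | e)
    · exact absurd (e ▸ fz : f 1 = _) (by rw [h.one]; decide)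
    · exact absurd (e ▸ fz : f t = _) (by rw [h.ft]; decide)
  have st : s * t = t * s := mem_centralizer_singleton_iff.1 hs
  have sz : s * z = z * s := by
    have e := h.commE zE u uE
    have e1 : s * u * z = z * (s * u) := by rw [hz]; group
    rwa [mul_assoc, e, ← mul_assoc, ← mul_assoc, mul_left_inj] at e1
  have z0 : ∀ K : Subgroup G, t ∈ K → z ∈ K → ∀ x ∈ C.St T, f x = 1 ∨ f x = swap 0 1 * swap 2 3 → x ∈ K := by
    rintro K a1 a2 x hx (e | e)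
    · rcases h.ker x hx e with rfl | rfl
      exacts [one_mem _, a1]
    · rcases h.eq_of hx zE.1 (e.trans fz.symm) with rfl | rfl
      exacts [a2, mul_mem a2 a1]
  have gE : ∀ K : Subgroup G, t ∈ K → z ∈ K → u ∈ K → h.E ≤ K := fun K a1 a2 a3 x hx => by
    rcases or_assoc.2 (out2 _ hx.2) with e | e
    · exact z0 K a1 a2 x hx.1 e
    · exact (mul_mem_cancel_left a3).1 (z0 K a1 a2 _ (mul_mem hu hx.1) (by
        rwa [h.mul (h.le hu) (h.le hx.1), fu]))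
  have gP : ∀ K : Subgroup G, t ∈ K → s ∈ K → u ∈ K → P ≤ K := fun K a1 a2 a3 x hx => by
    have := gE K a1 (hz ▸ mul_mem (mul_mem a2 a3) (mul_mem a2 a3)) a3
    exact hx.elim (this ·) fun e => (mul_mem_cancel_left a2).1 (this e)
  have EP : h.E ≤ P := fun _ => Or.inl
  have sP : s ∈ P := Or.inr (ss ▸ one_mem _)
  have sq : ∀ x ∈ P, x * x = 1 ∨ x * x = z := fun x hx => by
    rcases hx with hx | hx
    · exact Or.inl (h.sqE hx)
    obtain ⟨y, rfl⟩ : ∃ y, x = s * y := ⟨s * x, by rw [← mul_assoc, ss, one_mul]⟩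
    rw [← mul_assoc, ss, one_mul] at hx
    refine (out1 _ hx.2).imp (fun e => h.sq _ (mul_mem hs (h.le hx.1)) (by
      rwa [h.mul hs (h.le hx.1), fs])) fun e => ?_
    have e1 := mem_centralizer_singleton_iff.1 (z0 𝐂[s] (mem_centralizer_singleton_iff.2 st.symm)
      (mem_centralizer_singleton_iff.2 sz.symm) _ (mul_mem hu hx.1) (by
        rwa [h.mul (h.le hu) (h.le hx.1), fu]))
    have e4 := mul_mem uE hx
    obtain ⟨w, rfl⟩ : ∃ w, y = u * w := ⟨u * y, by rw [← mul_assoc, uu, one_mul]⟩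
    rw [← mul_assoc u u, uu, one_mul] at e1 e4
    have e2 := h.commE e4 u uE
    have e3 := h.sqE e4
    calc _ = s * u * (w * s) * (u * w) := by group
      _ = s * u * (s * (w * u)) * w := by rw [e1]; group
      _ = _ := by rw [← e2, hz, ← mul_one (s * u * (s * u)), ← e3]; group
  rcases grow sy.isP with c | ⟨g, g1, g2, g3⟩
  · exact not_sylow H.nab c c16 h.tt ss uu (by rw [← zz, hz]; simp only [pow_succ, pow_zero, one_mul, mul_assoc])
      st (h.commE h.tE u uE) gP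
  have z1 : z ≠ 1 := fun e => zn (Or.inl e)
  obtain ⟨Z, lz, bz⟩ := H.invol_bi hR (orderOf_eq_prime ((pow_two z).trans zz) z1)
  have tZ : t ∈ C.St Z := (Cx.mem_St h.lift).2 (zE.1 Z lz).symm
  have u1 : u ∉ C.St Z := fun e => zn (h.rad H hR zE lz (gE _ tZ (self_mem lz) e))
  have Pz : P ≤ 𝐂[z] := gP _ (Cx.St_le lz tZ) (mem_centralizer_singleton_iff.2 sz)
    (mem_centralizer_singleton_iff.2 (h.commE zE u uE))
  have gz : ∀ g ∈ 𝐍(P), g ∈ 𝐂[z] := fun g g1 => by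
    have := (sq _ (conj_mem_of_mem_normalizer g1 (mul_mem sP (EP uE)))).resolve_left (by
      rwa [conj_mul, ← hz, conj_eq_one_iff])
    rw [conj_mul, ← hz] at this
    exact mem_centralizer_singleton_iff.2 (mul_inv_eq_iff_eq_mul.1 this)
  wlog hg : g ∈ C.St Z generalizing g
  · refine this (g * u) (mul_mem g1 (le_normalizer (EP uE))) (mt (mul_mem_cancel_right (EP uE)).1 g2) ?_
      (mul_out h2 lz bz (gz g g1) (Pz (EP uE)) hg u1)
    have := mul_mem (mul_mem (conj_mem_of_mem_normalizer g1 (EP uE)) g3) (EP uE)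
    rwa [show g * u * g⁻¹ * (g * g) * u = g * u * (g * u) by group] at this
  have gt := not_mem_of_grow sy g1 g2 g3
  have fP : ∀ x ∈ P, f x ∈ V4 ∨ swap 0 1 * f x ∈ V4 := fun x hx => hx.imp And.right fun e => by
    rw [← fs, ← h.mul hs (sy.le hx)]; exact e.2
  have e1 : g * t * g⁻¹ = z * t := by
    have w1 := conj_mem_of_mem_normalizer g1 (EP h.tE)
    have cm : ∀ x ∈ P, f (g * t * g⁻¹) * f x = f x * f (g * t * g⁻¹) := fun x hx => by
      have := mem_centralizer_singleton_iff.1 (sy.le (conj_mem_of_mem_normalizer' g1 hx))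
      rw [← h.mul (sy.le w1) (sy.le hx), ← h.mul (sy.le hx) (sy.le w1)]
      congr 1
      calc _ = g * (t * (g⁻¹ * x * g)) * g⁻¹ := by group
        _ = _ := by rw [← this]; group
    obtain ⟨a1, a2⟩ := out3 _ (fP _ w1) (fs ▸ cm s sP) (fu ▸ cm u (EP uE))
    have w2 := (w1.resolve_right fun e => a1 (by rw [← fs, ← h.mul hs (sy.le w1)]; exact e.2)).1
    rcases a2 with a2 | a2
    · exact ((h.ker _ w2 a2).elim (mt conj_eq_one_iff.1 h.t1) fun e =>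
        gt (mem_centralizer_singleton_iff.2 (mul_inv_eq_iff_eq_mul.1 e))).elim
    · refine (h.eq_of w2 zE.1 (a2.trans fz.symm)).resolve_left fun e => zn (Or.inr ?_)
      rw [mul_inv_eq_iff_eq_mul, ← mem_centralizer_singleton_iff.1 (gz g g1), mul_right_inj] at e
      exact e.symm
  have w1 := conj_mem_of_mem_normalizer g1 (EP uE)
  have w2 : s * (g * u * g⁻¹) ∈ h.E := w1.resolve_left fun e => gt (h.normE H hR
    (mem_normalizer_of_cj_le (cj_le_iff.2 (gE _ (mem_cj.2 (by simpa [e1] using mul_mem zE h.tE))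
      (mem_cj.2 (by simpa [mem_centralizer_singleton_iff.1 (gz g g1)] using zE))
      (mem_cj.2 (by simpa using e))))))
  refine fin8 H hR lz bz (EP uE) tZ Pz u1 sq uu h.tt zz z1 h.t1 (fun e => zn (Or.inr e.symm))
    (h.commE h.tE u uE) hg g3 e1 w1 ((sq _ (mul_mem w1 (inv_mem (EP uE)))).resolve_left fun e => ?_)
  have w3 := mul_mem (sy.le w1) (inv_mem (h.le hu))
  refine out4 (f (g * u * g⁻¹)) (by rw [← fs, ← h.mul hs (sy.le w1)]; exact w2.2) (by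
    rw [← h.mul (sy.le w1) (sy.le w1), conj_mul, uu, mul_one, mul_inv_cancel, h.one]) ?_
  rw [← fu, ← h.inv (h.le hu), ← h.mul (sy.le w1) (inv_mem (h.le hu)), ← h.mul w3 w3, e, h.one]

end N2y

/-- **(N2)** involution centralisers are solvable -/
theorem Cx.Hy.solC (H : C.Hy p) (hR : C.NR) : Cx.SolC G := fun t o => by_contra fun hn => by
  obtain ⟨T, f, h⟩ := N2y.exists_ns H hR o hn
  obtain ⟨s, hs, s1, e | e⟩ := h.exists_out H hR
  · exact h.inner H hR hn hs s1 e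
  · exact h.outer H hR hs s1 e

end H28.R4
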